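import Cfsg.Agent.Lib.AIC.Glob

/-!
# Groups in which commuting involutions have the same centralizer
-/

set_option autoImplicit false

namespace Cfsg.Agent.AIC

variable {G : Type*} [Group G]

/-- Commuting involutions have the same centralizer, there are non-commuting involutions
and there are two distinct commuting involutions. -/
structure Hyp2 (G : Type*) [Group G] : Prop where
  trans : ∀ {u v x : G}, IsInv u → IsInv v → Commute u v → Commute x u → Commute x v
  nc : ∃ u v : G, IsInv u ∧ IsInv v ∧ ¬ Commute u v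
  ncyc : ∃ u v : G, IsInv u ∧ IsInv v ∧ u ≠ v ∧ Commute u v

theorem inverts_pow {t k : G} (ht : IsInv t) (hk : t * k * t = k⁻¹) (n : ℕ) :
    t * k ^ n * t = (k ^ n)⁻¹ := by
  have := conj_pow (a := t) (b := k) (i := n)
  rw [ht.inv_eq] at this
  rw [← inv_pow, ← hk, this]

theorem mem_of_coprime {H : Subgroup G} {g : G} {n m : ℕ} (hc : n.Coprime m) (h1 : g ^ n ∈ H)
    (h2 : g ^ m ∈ H) : g ∈ H := by
  have h := Nat.gcd_eq_gcd_ab n m
  rw [hc.gcd_eq_one] at h
  have : g = (g ^ n) ^ (n.gcdA m) * (g ^ m) ^ (n.gcdB m) := by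
    rw [← zpow_natCast, ← zpow_natCast, ← zpow_mul, ← zpow_mul, ← zpow_add, ← h]; simp
  rw [this]
  exact mul_mem (zpow_mem h1 _) (zpow_mem h2 _)

theorem eq_one_of_coprime {g : G} {n m : ℕ} (hc : n.Coprime m) (h1 : g ^ n = 1)
    (h2 : g ^ m = 1) : g = 1 :=
  Subgroup.mem_bot.1 (mem_of_coprime hc (Subgroup.mem_bot.2 h1) (Subgroup.mem_bot.2 h2))

namespace Hyp2

variable (h : Hyp2 G)
include h

theorem commute_iff {u v : G} (hu : IsInv u) (hv : IsInv v) (huv : Commute u v) (x : G) :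
    Commute x u ↔ Commute x v :=
  ⟨h.trans hu hv huv, h.trans hv hu huv.symm⟩

theorem mem_N {u g : G} (hu : IsInv u) : g ∈ N u ↔ Commute (g * u * g⁻¹) u := by
  refine ⟨fun hg => conj_commute hg (Commute.refl u), fun hg x => ?_⟩
  rw [← commute_conj_iff g x u, h.commute_iff (hu.conj g) hu hg]

theorem N_eq {u v : G} (hu : IsInv u) (hv : IsInv v) (huv : Commute u v) : N u = N v := by
  ext g
  constructor
  · intro hg x
    rw [← h.commute_iff hu hv huv, ← h.commute_iff hu hv huv]; exact hg x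
  · intro hg x
    rw [h.commute_iff hu hv huv, h.commute_iff hu hv huv]; exact hg x

theorem mem_N_of_commute {u x : G} (hu : IsInv u) (hx : Commute x u) : x ∈ N u := by
  rw [h.mem_N hu, conj_eq_of_commute hx]

theorem exists_not_commute {u : G} (hu : IsInv u) : ∃ v, IsInv v ∧ ¬ Commute u v := by
  obtain ⟨a, b, ha, hb, hab⟩ := h.nc
  by_cases h1 : Commute u a
  · exact ⟨b, hb, fun h2 => hab (h.trans hu hb h2 h1.symm)⟩
  · exact ⟨a, ha, h1⟩

theorem commute_of_mem_N {u s : G} (hu : IsInv u) (hs : IsInv s) (hsu : s ∈ N u) :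
    Commute s u := by
  have h1 : Commute (s * u * s) u := by
    have := (h.mem_N hu).1 hsu
    rwa [hs.inv_eq] at this
  by_cases hx : u * (s * u * s) = 1
  · have : s * u * s = u := by
      rw [← hu.inv_eq, eq_inv_iff_mul_eq_one, hu.inv_eq, h1.eq, hx]
    refine commute_of_conj_eq ?_
    rw [hs.inv_eq, this]
  · have hxi : IsInv (u * (s * u * s)) := ⟨hx, by
      rw [← h1.eq, mul_assoc, ← mul_assoc u, ← h1.eq, ← mul_assoc, ← mul_assoc, (hu.conj' hs).2,
        one_mul, hu.2]⟩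
    have h2 : Commute s (u * (s * u * s)) := by
      have : s * (u * (s * u * s)) = s * u * s * u * s := by group
      change s * (u * (s * u * s)) = u * (s * u * s) * s
      rw [this, h1.eq]
    exact h.trans hxi hu ((Commute.refl u).mul_left h1) h2

theorem eq_one_of_mem_N {u v g : G} (hu : IsInv u) (hv : IsInv v) (huv : ¬ Commute u v)
    (hgu : g ∈ N u) (hgv : g ∈ N v) (hg : g * g = 1) : g = 1 := by
  by_contra hne
  have hi : IsInv g := ⟨hne, hg⟩
  exact huv (h.trans hi hv (h.commute_of_mem_N hv hi hgv) (h.commute_of_mem_N hu hi hgu).symm)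

theorem not_mem_N {u s : G} (hu : IsInv u) (hs : IsInv s) (hsu : ¬ Commute s u) : s ∉ N u :=
  fun e => hsu (h.commute_of_mem_N hu hs e)

theorem not_commute_swap {u t : G} (hu : IsInv u) (ht : IsInv t) (htu : ¬ Commute t u) :
    ¬ Commute u (t * u * t) := fun e => h.not_mem_N hu ht htu ((h.mem_N hu).2 (by
  rw [ht.inv_eq]; exact e.symm))

omit h in
theorem not_commute_conj {u v y : G} (huv : ¬ Commute u v) (hy : y ∈ N u) :
    ¬ Commute u (y * v * y⁻¹) := fun e => huv (by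
  have := conj_commute' hy e.symm
  rw [show y⁻¹ * (y * v * y⁻¹) * y = v by group] at this
  exact this.symm)

variable [Finite G]

theorem odd_of_mem_N {u v g : G} (hu : IsInv u) (hv : IsInv v) (huv : ¬ Commute u v)
    (hgu : g ∈ N u) (hgv : g ∈ N v) : Odd (orderOf g) :=
  odd_orderOf (X := N u ⊓ N v) (fun _ hs hsi => hsi.1 (h.eq_one_of_mem_N hu hv huv hs.1 hs.2 hsi.2))
    ⟨hgu, hgv⟩

theorem odd_mul {u t : G} (hu : IsInv u) (ht : IsInv t) (hut : ¬ Commute u t) :
    Odd (orderOf (u * t)) := by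
  refine odd_orderOf (X := Subgroup.zpowers (u * t)) ?_ (Subgroup.mem_zpowers _)
  intro s hs hsi
  obtain ⟨k, rfl⟩ := (mem_powers_iff_mem_zpowers.2 hs : s ∈ Submonoid.powers (u * t))
  simp only at hsi
  have h1 : Commute u ((u * t) ^ k) := commute_of_conj_eq (by
    rw [hu.inv_eq, inverts_pow hu (by rw [mul_inv_rev, ht.inv_eq, hu.inv_eq, hu.mul_mul]),
      hsi.inv_eq])
  have h2 : Commute (u * t) ((u * t) ^ k) := (Commute.refl _).pow_right k
  have h3 := h1.mul_left h2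
  rw [hu.mul_mul] at h3
  exact hut (h.trans hsi ht h3.symm h1)

/-- An involution inverting a nontrivial element of `T u` lies in `T u`. -/
theorem commute_of_inverts {u x t : G} (hu : IsInv u) (ht : IsInv t) (hx : Commute x u)
    (hx1 : x ≠ 1) (hi : t * x * t = x⁻¹) : Commute t u := by
  by_contra hc
  obtain ⟨k, hk⟩ := h.odd_mul hu ht fun e => hc e.symm
  have h1 : u * t * x * (u * t)⁻¹ = x⁻¹ := by
    rw [mul_inv_rev, ht.inv_eq, show u * t * x * (t * u⁻¹) = u * (t * x * t) * u⁻¹ by group, hi,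
      conj_eq_of_commute hx.symm.inv_right]
  have h2 : Commute (u * t * (u * t)) x := commute_of_conj_eq (by
    rw [show u * t * (u * t) * x * (u * t * (u * t))⁻¹ =
      u * t * (u * t * x * (u * t)⁻¹) * (u * t)⁻¹ by group, h1, ← conj_inv, h1, inv_inv])
  have h3 : Commute (u * t) x :=
    mem_T.1 (mem_of_sq_mem (h.odd_mul hu ht fun e => hc e.symm) (mem_T.2 h2))
  rw [conj_eq_of_commute h3] at h1
  have hxi : IsInv x := ⟨hx1, by nth_rewrite 1 [h1]; simp⟩
  exact hc (h.trans hxi hu hx (commute_of_conj_eq (by rw [ht.inv_eq, hi, ← h1])))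

theorem isConj_of_not_commute {u t : G} (hu : IsInv u) (ht : IsInv t) (hut : ¬ Commute u t) :
    IsConj u t := by
  have hinv := inverts_pow hu (k := u * t) (by rw [mul_inv_rev, ht.inv_eq, hu.inv_eq, hu.mul_mul])
  obtain ⟨k, hk⟩ := eq_sq_pow_of_odd (h.odd_mul hu ht hut)
  refine isConj_iff.2 ⟨((u * t) ^ k)⁻¹, ?_⟩
  rw [inv_inv, ← hinv, mul_assoc, mul_assoc, hu.mul_mul, mul_assoc, ← (Commute.refl _).mul_pow, hk,
    hu.mul_mul]

theorem isConj {u v : G} (hu : IsInv u) (hv : IsInv v) : IsConj u v := by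
  by_cases huv : Commute u v
  · obtain ⟨w, hw, huw⟩ := h.exists_not_commute hu
    have hvw : ¬ Commute v w := fun e => huw (h.trans hv hw e huv)
    exact (h.isConj_of_not_commute hu hw huw).trans (h.isConj_of_not_commute hv hw hvw).symm
  · exact h.isConj_of_not_commute hu hv huv

theorem exists_conj {u v : G} (hu : IsInv u) (hv : IsInv v) : ∃ g, g * u * g⁻¹ = v :=
  isConj_iff.1 (h.isConj hu hv)

theorem inv_unique {u s s' : G} (hu : IsInv u) (hs : IsInv s) (hs' : IsInv s')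
    (hsu : ¬ Commute s u) (hc : Commute (s * s') u) : s = s' := by
  by_contra hne
  refine hsu (h.commute_of_inverts hu hs hc (fun e => hne ?_) ?_)
  · rw [← hs.mul_mul s', e, mul_one]
  · rw [mul_inv_rev, hs.inv_eq, hs'.inv_eq, hs.mul_mul]

theorem exists_inv {u g : G} (hu : IsInv u) (hg : g ∉ N u) :
    ∃ s, IsInv s ∧ ¬ Commute s u ∧ Commute (s * g) u := by
  have key : ∀ a : G, a ∉ N u → ∀ b : G, (b : G ⧸ T u) = (a : G ⧸ T u) → b ∉ N u := by
    intro a ha b hb hbN
    apply ha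
    have := h.mem_N_of_commute hu (mem_T.1 (QuotientGroup.eq.1 hb))
    simpa using mul_mem hbN this
  let X := {c : G ⧸ T u // c.out ∉ N u}
  have hnc : ∀ c : X, ¬ Commute (c.1.out * u * c.1.out⁻¹) u := fun c e =>
    c.2 ((h.mem_N hu).2 e)
  let F : X → X := fun c => ⟨(c.1.out * u * c.1.out⁻¹ : G),
    key _ (h.not_mem_N hu (hu.conj _) (hnc c)) _ (QuotientGroup.out_eq' _)⟩
  have hF : Function.Injective F := by
    intro c d hcd
    have e : ((c.1.out * u * c.1.out⁻¹ : G) : G ⧸ T u) = (d.1.out * u * d.1.out⁻¹ : G) :=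
      congrArg Subtype.val hcd
    have e1 := mem_T.1 (QuotientGroup.eq.1 e)
    rw [(hu.conj _).inv_eq] at e1
    have e2 := h.inv_unique hu (hu.conj _) (hu.conj _) (hnc c) e1
    apply Subtype.ext
    rw [← c.1.out_eq', ← d.1.out_eq', QuotientGroup.eq, mem_T]
    refine commute_of_conj_eq ?_
    calc c.1.out⁻¹ * d.1.out * u * (c.1.out⁻¹ * d.1.out)⁻¹
        = c.1.out⁻¹ * (d.1.out * u * d.1.out⁻¹) * c.1.out := by group
      _ = u := by rw [← e2]; group
  obtain ⟨c, hc⟩ := Finite.surjective_of_injective hF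
    ⟨(g : G ⧸ T u), key g hg _ (QuotientGroup.out_eq' _)⟩
  have e : ((c.1.out * u * c.1.out⁻¹ : G) : G ⧸ T u) = (g : G ⧸ T u) := congrArg Subtype.val hc
  have e1 := mem_T.1 (QuotientGroup.eq.1 e)
  rw [(hu.conj _).inv_eq] at e1
  exact ⟨_, hu.conj _, hnc c, e1⟩

theorem exists_swap {u v : G} (hu : IsInv u) (hv : IsInv v) (huv : ¬ Commute u v) :
    ∃ t, IsInv t ∧ ¬ Commute t u ∧ t * u * t = v := by
  obtain ⟨g, hg⟩ := h.exists_conj hu hv
  have hgN : g ∉ N u := fun e => huv (by rw [h.mem_N hu, hg] at e; exact e.symm)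
  obtain ⟨s, hs, hsu, hc⟩ := h.exists_inv hu hgN
  refine ⟨s, hs, hsu, ?_⟩
  have := conj_eq_of_commute hc
  rw [← this, ← hg, mul_inv_rev, hs.inv_eq]
  simp only [mul_assoc, hs.mul_mul, hs.2, mul_one]

theorem exists_K {u t n : G} (hu : IsInv u) (ht : IsInv t) (htu : ¬ Commute t u) (hn : n ∈ N u) :
    ∃ k ∈ N u, k ∈ N (t * u * t) ∧ t * k * t = k⁻¹ ∧ Commute (k⁻¹ * n) u := by
  obtain ⟨s, hs, -, hc⟩ := h.exists_inv (g := t * n) hu
    (fun e => h.not_mem_N hu ht htu (by simpa using mul_mem e (inv_mem hn)))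
  have h1 : t * (t * s) * t = (t * s)⁻¹ := by rw [mul_inv_rev, hs.inv_eq, ht.inv_eq, ht.mul_mul]
  have h2 : Commute ((t * s)⁻¹ * n) u := by rwa [mul_inv_rev, hs.inv_eq, ht.inv_eq, mul_assoc]
  have h3 : t * s ∈ N u := by simpa using mul_mem hn (inv_mem (h.mem_N_of_commute hu h2))
  exact ⟨t * s, h3, by simpa [h1] using inv_mem (conj_mem_N' ht h3), h1, h2⟩

theorem eq_one_of_inverted {u t k : G} (hu : IsInv u) (ht : IsInv t) (htu : ¬ Commute t u)
    (hk : t * k * t = k⁻¹) (hc : Commute k u) : k = 1 := by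
  by_contra hne
  exact htu (h.commute_of_inverts hu ht hc hne hk)

theorem exists_ne_commute {u : G} (hu : IsInv u) : ∃ v, IsInv v ∧ v ≠ u ∧ Commute v u := by
  obtain ⟨a, b, ha, hb, hab, hc⟩ := h.ncyc
  obtain ⟨g, rfl⟩ := h.exists_conj ha hu
  exact ⟨g * b * g⁻¹, hb.conj g, fun e => hab (by simpa using e.symm),
    (commute_conj_iff _ _ _).2 hc.symm⟩

theorem exists_mem_N_not_commute {u : G} (hu : IsInv u) : ∃ n ∈ N u, ¬ Commute n u := by
  obtain ⟨v, hv, hne, hc⟩ := h.exists_ne_commute hu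
  obtain ⟨g, rfl⟩ := h.exists_conj hu hv
  exact ⟨g, (h.mem_N hu).2 hc, fun e => hne (conj_eq_of_commute e)⟩

theorem pow_card_commute {u g : G} (hu : IsInv u) (hg : g ∈ N u) :
    Commute (g ^ Nat.card {s : G // IsInv s ∧ Commute s u}) u := by
  have : ((T u).subgroupOf (N u)).Normal := ⟨fun a ha b =>
    mem_T.2 (conj_commute b.2 (mem_T.1 ha))⟩
  have h1 : ((T u).subgroupOf (N u)).index = Nat.card {s : G // IsInv s ∧ Commute s u} := by
    rw [Subgroup.index_eq_card]
    refine Nat.card_congr (Equiv.ofBijective (fun c => ⟨c.out * u * (c.out : G)⁻¹,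
      hu.conj _, (h.mem_N hu).1 c.out.2⟩) ⟨fun c d e => ?_, fun s => ?_⟩)
    · have e2 : (c.out : G) * u * (c.out : G)⁻¹ = d.out * u * (d.out : G)⁻¹ :=
        congrArg Subtype.val e
      rw [← c.out_eq', ← d.out_eq', QuotientGroup.eq]
      refine mem_T.2 (commute_of_conj_eq ?_)
      calc (c.out : G)⁻¹ * d.out * u * ((c.out : G)⁻¹ * d.out)⁻¹
          = (c.out : G)⁻¹ * (d.out * u * (d.out : G)⁻¹) * c.out := by group
        _ = u := by rw [← e2]; group
    · obtain ⟨c, hc⟩ := h.exists_conj hu s.2.1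
      have hcN : c ∈ N u := (h.mem_N hu).2 (hc ▸ s.2.2)
      refine ⟨(⟨c, hcN⟩ : N u), Subtype.ext ?_⟩
      obtain ⟨y, hy⟩ := QuotientGroup.mk_out_eq_mul ((T u).subgroupOf (N u)) ⟨c, hcN⟩
      have hy2 : Commute (y.1.1 : G) u := mem_T.1 y.2
      simp only [hy, Subgroup.coe_mul]
      rw [← hc, mul_inv_rev, mul_assoc c, mul_assoc c, ← mul_assoc _ _ c⁻¹,
        conj_eq_of_commute hy2, mul_assoc]
  rw [← h1]
  exact mem_T.1 (((T u).subgroupOf (N u)).pow_index_mem ⟨g, hg⟩)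

/-- Elements of `T u ⊓ T v` are centralized by the involutions swapping the two points. -/
theorem commute_swap {u t b : G} (hu : IsInv u) (ht : IsInv t) (htu : ¬ Commute t u)
    (h1 : Commute b u) (h2 : Commute b (t * u * t)) : Commute b t := by
  have h3 : Commute (t * b * t) u := by
    have := commute_conj' ht h2
    rwa [show t * (t * u * t) * t = u by simp only [mul_assoc, ht.mul_mul, ht.2, mul_one]] at this
  have h4 := h.eq_one_of_inverted hu ht htu (k := b⁻¹ * (t * b * t)) (by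
    simp only [mul_inv_rev, ht.inv_eq, inv_inv, mul_assoc, ht.mul_mul, ht.2, mul_one])
    (h1.inv_left.mul_left h3)
  rw [inv_mul_eq_one] at h4
  exact (commute_of_conj_eq (by rw [ht.inv_eq, ← h4])).symm

theorem commute_K {u t b k : G} (hu : IsInv u) (ht : IsInv t) (htu : ¬ Commute t u)
    (h1 : Commute b u) (h2 : Commute b (t * u * t)) (hk : k ∈ N u) (hkt : t * k * t = k⁻¹) :
    Commute b k := by
  have hi : IsInv (t * k) := ⟨fun e =>
    h.not_mem_N hu ht htu (by rw [eq_inv_of_mul_eq_one_left e]; exact inv_mem hk), by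
      rw [← mul_assoc, hkt, inv_mul_cancel]⟩
  have h3 : ¬ Commute (t * k) u := fun e => h.not_mem_N hu ht htu (by
    simpa using mul_mem (h.mem_N_of_commute hu e) (inv_mem hk))
  have h4 : Commute (t * u * t) (t * k * u * (t * k)) := by
    have := commute_conj' ht ((h.mem_N hu).1 hk).symm
    rwa [show t * (k * u * k⁻¹) * t = t * k * u * (t * k) by
      rw [← hkt]; simp only [mul_assoc, ht.2, mul_one]] at this
  have h5 := h.commute_swap hu hi h3 h1 (h.trans (hu.conj' ht) (hu.conj' hi) h4 h2)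
  have := (h.commute_swap hu ht htu h1 h2).mul_right h5
  rwa [ht.mul_mul] at this

end Hyp2

/-- The quotient `N u / T u` has exponent dividing `n` and elements of odd order of `T u` have order
dividing `m`, prime to `n`. -/
structure Hyp3 (G : Type*) [Group G] (n m : ℕ) : Prop extends Hyp2 G where
  cop : n.Coprime m
  pw1 : ∀ {u g : G}, IsInv u → g ∈ N u → Commute (g ^ n) u
  pw2 : ∀ {u g : G}, IsInv u → Commute g u → Odd (orderOf g) → g ^ m = 1

namespace Hyp3

variable {n m : ℕ} (h : Hyp3 G n m) [Finite G]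
include h

omit [Finite G] in
theorem commute_of_pow {u g : G} (hu : IsInv u) (hg : g ∈ N u) (h1 : g ^ m = 1) : Commute g u :=
  mem_T.1 (mem_of_coprime h.cop (mem_T.2 (h.pw1 hu hg)) (h1 ▸ one_mem _))

theorem pow_B {u v b : G} (hu : IsInv u) (hv : IsInv v) (huv : ¬ Commute u v)
    (hb : Commute b u) (hbv : b ∈ N v) : b ^ m = 1 :=
  h.pw2 hu hb (h.odd_of_mem_N hu hv huv (h.mem_N_of_commute hu hb) hbv)

theorem commute_B {u v b : G} (hu : IsInv u) (hv : IsInv v) (huv : ¬ Commute u v)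
    (hb : Commute b u) (hbv : b ∈ N v) : Commute b v :=
  h.commute_of_pow hv hbv (h.pow_B hu hv huv hb hbv)

theorem pow_K {u t k : G} (hu : IsInv u) (ht : IsInv t) (htu : ¬ Commute t u) (hk : k ∈ N u)
    (hkt : t * k * t = k⁻¹) : k ^ n = 1 :=
  h.eq_one_of_inverted hu ht htu (inverts_pow ht hkt n) (h.pw1 hu hk)

theorem exists_K_B {u t d : G} (hu : IsInv u) (ht : IsInv t) (htu : ¬ Commute t u)
    (hd : d ∈ N u) (hd' : d ∈ N (t * u * t)) : ∃ k b, k ∈ N u ∧ k ∈ N (t * u * t) ∧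
      t * k * t = k⁻¹ ∧ Commute b u ∧ Commute b (t * u * t) ∧ d = k * b := by
  obtain ⟨k, hk, hk', h1, h2⟩ := h.exists_K hu ht htu hd
  exact ⟨k, k⁻¹ * d, hk, hk', h1, h2, h.commute_B hu (hu.conj' ht) (h.not_commute_swap hu ht htu) h2
    (mul_mem (inv_mem hk') hd'), by group⟩

theorem inverts_of_pow {u t d : G} (hu : IsInv u) (ht : IsInv t) (htu : ¬ Commute t u)
    (hd : d ∈ N u) (hd' : d ∈ N (t * u * t)) (hn : d ^ n = 1) : t * d * t = d⁻¹ := by
  obtain ⟨k, b, hk, hk', h1, h2, h3, rfl⟩ := h.exists_K_B hu ht htu hd hd'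
  rw [(h.commute_K hu ht htu h2 h3 hk h1).symm.mul_pow, h.pow_K hu ht htu hk h1, one_mul] at hn
  rw [eq_one_of_coprime h.cop hn (h.pow_B hu (hu.conj' ht) (h.not_commute_swap hu ht htu) h2
    (h.mem_N_of_commute (hu.conj' ht) h3)), mul_one, h1]

theorem eq_one_of_three {u v w g : G} (hu : IsInv u) (hv : IsInv v) (hw : IsInv w)
    (huv : ¬ Commute u v) (huw : ¬ Commute u w) (hvw : ¬ Commute v w)
    (hgu : g ∈ N u) (hgv : g ∈ N v) (hgw : g ∈ N w) (hn : g ^ n = 1) : g = 1 := by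
  obtain ⟨t, ht, htu', htu⟩ := h.exists_swap hu hv huv
  obtain ⟨s, hs, hsu', hsu⟩ := h.exists_swap hu hw huw
  obtain ⟨r, hr, hru', hru⟩ := h.exists_swap hv hw hvw
  have e1 := h.inverts_of_pow hu ht htu' hgu (htu ▸ hgv) hn
  have e2 := h.inverts_of_pow hu hs hsu' hgu (hsu ▸ hgw) hn
  have e3 := h.inverts_of_pow hv hr hru' (inv_mem hgv) (hru ▸ inv_mem hgw) (by simp [hn])
  have hω : Commute (t * r * s) u := by
    refine commute_of_conj_eq ?_
    rw [mul_inv_rev, mul_inv_rev, ht.inv_eq, hr.inv_eq, hs.inv_eq]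
    calc t * r * s * u * (s * (r * t)) = t * (r * (s * u * s) * r) * t := by group
      _ = u := by
        rw [hsu, ← hru, ← htu]; simp only [mul_assoc, hr.mul_mul, ht.mul_mul, ht.2, mul_one]
  have e4 : t * r * s * g * (t * r * s)⁻¹ = g⁻¹ := by
    rw [mul_inv_rev, mul_inv_rev, ht.inv_eq, hr.inv_eq, hs.inv_eq]
    calc t * r * s * g * (s * (r * t)) = t * (r * (s * g * s) * r) * t := by group
      _ = _ := by rw [e2, e3, inv_inv, e1]
  have h4 : Commute (g * g) u := by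
    have h5 : Commute (g⁻¹ * (t * r * s) * g * (t * r * s)⁻¹) u :=
      (conj_commute' hgu hω).mul_left hω.inv_left
    rw [mul_assoc g⁻¹, mul_assoc g⁻¹, e4] at h5
    simpa using h5.inv_left
  refine h.eq_one_of_mem_N hu hv huv hgu hgv (h.eq_one_of_inverted hu ht htu' ?_ h4)
  rw [← sq, inverts_pow ht e1]

theorem commute_of_fix {u v w g : G} (hu : IsInv u) (hv : IsInv v) (hw : IsInv w)
    (huv : ¬ Commute u v) (huw : ¬ Commute u w) (hg : g ≠ 1) (hn : g ^ n = 1)
    (hgu : g ∈ N u) (hgv : g ∈ N v) (hgw : g ∈ N w) : Commute v w := by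
  by_contra hvw
  exact hg (h.eq_one_of_three hu hv hw huv huw hvw hgu hgv hgw hn)

theorem mem_N_of_cent {u v k y : G} (hu : IsInv u) (hv : IsInv v) (huv : ¬ Commute u v)
    (hku : k ∈ N u) (hkv : k ∈ N v) (hk1 : k ≠ 1) (hn : k ^ n = 1) (hy : y ∈ N u)
    (hc : Commute y k) : y ∈ N v := by
  refine (h.mem_N hv).2 (h.commute_of_fix hu hv (hv.conj y) huv (Hyp2.not_commute_conj huv hy) hk1
    hn hku hkv ?_).symm
  have := conj_mem_N hkv y
  rwa [conj_eq_of_commute hc] at this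

theorem exists_K' {u v g : G} (hu : IsInv u) (hv : IsInv v) (huv : ¬ Commute u v) (hg : g ∈ N u) :
    ∃ k ∈ N u, k ∈ N v ∧ k ^ n = 1 ∧ Commute (k⁻¹ * g) u := by
  obtain ⟨t, ht, htu, rfl⟩ := h.exists_swap hu hv huv
  obtain ⟨k, hk, hk', h1, h2⟩ := h.exists_K hu ht htu hg
  exact ⟨k, hk, hk', h.pow_K hu ht htu hk h1, h2⟩

/-- `T u` is transitive on the points other than `u`. -/
theorem two_trans {u v w : G} (hu : IsInv u) (hv : IsInv v) (hw : IsInv w) (huv : ¬ Commute u v)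
    (huw : ¬ Commute u w) : ∃ y, Commute y u ∧ Commute (y * v * y⁻¹) w := by
  obtain ⟨g, hg, hgu⟩ := h.exists_mem_N_not_commute hu
  obtain ⟨k, hku, hkv, hkn, hk⟩ := h.exists_K' hu hv huv hg
  obtain ⟨d, hdu, hdw, hdn, hd⟩ := h.exists_K' hu hw huw hg
  have hk1 : k ≠ 1 := fun e => hgu (by simpa [e] using hk)
  have hd1 : d ≠ 1 := fun e => hgu (by simpa [e] using hd)
  have hkd : Commute (k⁻¹ * d) u := by simpa [mul_assoc] using hk.mul_left hd.inv_left
  let B : Subgroup (T u) := (T k).subgroupOf (T u)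
  have hB : ∀ b : B, (b.1.1 : G) ^ m = 1 := fun b => h.pow_B hu hv huv (mem_T.1 b.1.2)
    (h.mem_N_of_cent hu hv huv hku hkv hk1 hkn (h.mem_N_of_commute hu (mem_T.1 b.1.2))
      (mem_T.1 b.2))
  have hB2 : ∀ b : B, Commute k (b.1.1 : G) := fun b => (mem_T.1 b.2).symm
  let f : (T u ⧸ B) × B → T u := fun p => ⟨k⁻¹ * (p.1.out * (k * p.2.1) * (p.1.out : G)⁻¹), by
    rw [show k⁻¹ * (p.1.out * (k * p.2.1) * (p.1.out : G)⁻¹) =
      k⁻¹ * p.1.out * k * (p.2.1 * p.1.out⁻¹ : T u) by simp [mul_assoc]]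
    exact mul_mem (mem_T.2 (conj_commute' hku (mem_T.1 p.1.out.2))) (Subtype.mem _)⟩
  have hf : Function.Injective f := by
    rintro ⟨c, b⟩ ⟨c', b'⟩ e
    have e1 : (c.out : G) * (k * b.1) * (c.out : G)⁻¹ = c'.out * (k * b'.1) * (c'.out : G)⁻¹ :=
      mul_left_cancel (congrArg Subtype.val e)
    have e2 := congrArg (· ^ m) e1
    simp only [conj_pow, (hB2 b).mul_pow, (hB2 b').mul_pow, hB b, hB b', mul_one] at e2
    have e3 : Commute ((c.out : G)⁻¹ * c'.out) k := by
      refine (mem_T.1 (mem_of_coprime h.cop (hkn ▸ one_mem _) (mem_T.2 ?_))).symm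
      refine (commute_of_conj_eq ?_).symm
      calc (c.out : G)⁻¹ * c'.out * k ^ m * ((c.out : G)⁻¹ * c'.out)⁻¹
          = (c.out : G)⁻¹ * (c'.out * k ^ m * (c'.out : G)⁻¹) * c.out := by group
        _ = _ := by rw [← e2]; group
    have e4 : c = c' := by
      rw [← c.out_eq', ← c'.out_eq', QuotientGroup.eq]
      exact mem_T.2 e3
    subst e4
    have e5 : (b.1 : G) = b'.1 := by simpa using e1
    rw [Subtype.ext (Subtype.ext e5 : b.1 = b'.1)]
  obtain ⟨y, hy⟩ := Finite.surjective_of_injective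
    (hf.comp (Subgroup.groupEquivQuotientProdSubgroup (s := B)).injective) ⟨_, mem_T.2 hkd⟩
  obtain ⟨⟨c, b⟩, hcb⟩ : ∃ p, f p = ⟨_, mem_T.2 hkd⟩ := ⟨_, hy⟩
  have e1 : (c.out : G) * (k * b.1) * (c.out : G)⁻¹ = d := mul_left_cancel (congrArg Subtype.val hcb)
  have e2 : (b.1.1 : G) = 1 := by
    refine eq_one_of_coprime h.cop ?_ (hB b)
    rw [← e1, conj_pow, (hB2 b).mul_pow, hkn, one_mul] at hdn
    simpa using conj_eq_one_iff.1 hdn
  rw [e2, mul_one] at e1
  exact ⟨c.out, mem_T.1 c.out.2, h.commute_of_fix hu (hv.conj _) hw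
    (Hyp2.not_commute_conj huv (h.mem_N_of_commute hu (mem_T.1 c.out.2))) huw hd1 hdn hdu
    (e1 ▸ conj_mem_N hkv _) hdw⟩

/-- If no prime divisor of `n` divides `|T u| - 1`, two points are centralized by a nontrivial
element. -/
theorem exists_B {u v : G} (hu : IsInv u) (hv : IsInv v) (huv : ¬ Commute u v)
    (hc : ∀ r : ℕ, r.Prime → r ∣ n → ¬ Nat.card (T u) ≡ 1 [MOD r]) :
    ∃ b, b ≠ 1 ∧ Commute b u ∧ Commute b v := by
  classical
  obtain ⟨g, hg, hgu⟩ := h.exists_mem_N_not_commute hu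
  obtain ⟨k, hku, hkv, hkn, hk⟩ := h.exists_K' hu hv huv hg
  have hk1 : k ≠ 1 := fun e => hgu (by simpa [e] using hk)
  obtain ⟨r, hr, hrk⟩ := Nat.exists_prime_and_dvd (n := orderOf k) (by simpa using hk1)
  have := Fact.mk hr
  let l := k ^ (orderOf k / r)
  have hl : orderOf l = r := orderOf_pow_orderOf_div (orderOf_pos k).ne' hrk
  have hl1 : l ≠ 1 := fun e => hr.one_lt.ne' (by rw [← hl, e, orderOf_one])
  have hln : l ^ n = 1 := by rw [← pow_mul, mul_comm, pow_mul, hkn, one_pow]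
  have hlu : l ∈ N u := pow_mem hku _
  by_contra hne
  push Not at hne
  refine hc r hr (hrk.trans (orderOf_dvd_of_pow_eq_one hkn)) ?_
  have := Fintype.ofFinite (T u)
  let f : Function.End (T u) := fun x => ⟨l * x * l⁻¹, mem_T.2 (conj_commute hlu (mem_T.1 x.2))⟩
  have hf : ∀ j : ℕ, ∀ x, ((f ^ j) x : G) = l ^ j * x * (l ^ j)⁻¹ := by
    intro j
    induction j with
    | zero => intro x; simp; rfl
    | succ j ih =>
      intro x
      rw [pow_succ', pow_succ']
      change l * ((f ^ j) x : G) * l⁻¹ = _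
      rw [ih]; group
  have hf1 : f ^ r ^ 1 = 1 := by
    funext x
    apply Subtype.ext
    rw [hf, pow_one, ← hl, pow_orderOf_eq_one]
    simp; rfl
  have h1 := Equiv.Perm.card_fixedPoints_modEq hf1
  rwa [← Nat.card_eq_fintype_card, show Fintype.card f.fixedPoints = 1 from
    Fintype.card_eq_one_iff.2 ⟨⟨1, Subtype.ext (by simp [f])⟩, fun y => ?_⟩] at h1
  apply Subtype.ext
  apply Subtype.ext
  by_contra hy
  have h2 : Commute l y.1.1 := commute_of_conj_eq (congrArg Subtype.val y.2)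
  have h3 := h.mem_N_of_cent hu hv huv hlu (pow_mem hkv _) hl1 hln
    (h.mem_N_of_commute hu (mem_T.1 y.1.2)) h2.symm
  exact hne y.1.1 hy (mem_T.1 y.1.2) (h.commute_B hu hv huv (mem_T.1 y.1.2) h3)

end Hyp3

end Cfsg.Agent.AIC
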