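import Cfsg.Agent.Lib.AIC.UG

/-!
# Groups whose involution centralizers are those of `PGU₃(q)`, `q` even: the action on the unital
-/

set_option autoImplicit false

namespace Cfsg.Agent.AIC

variable {F : Type*} [Field F] {σ : F →+* F} {q : ℕ} {G : Type*} [Group G] [Invol σ]

namespace Setup

variable (S : Setup σ q G)

/-- The involution at the origin. -/
def v : G := S.t * S.u * S.t

/-- Translations. -/
def x (p : Q σ) : G := S.φ (M.X p)

/-- Elements fixing the standard block. -/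
def k (μ : F) (h : μ * σ μ = 1) : G := S.φ (M.K μ h)

/-- An involution fixing the given point. -/
def rep : Option (Q σ) → G
  | none => S.u
  | some p => S.x p * S.v * (S.x p)⁻¹

theorem hv : IsInv S.v := S.hu.conj' S.ht

theorem huv : ¬ Commute S.u S.v := S.h.not_commute_swap S.hu S.ht S.htu

theorem tvt : S.t * S.v * S.t = S.u := by
  simp only [v, mul_assoc, S.ht.mul_mul, S.ht.2, mul_one]

theorem x_u (p : Q σ) : Commute (S.x p) S.u := S.mod.commute _

theorem k_u (μ : F) (h : μ * σ μ = 1) : Commute (S.k μ h) S.u := S.mod.commute _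

theorem k_v (μ : F) (h : μ * σ μ = 1) : Commute (S.k μ h) S.v := S.hK μ h

theorem x_N (p : Q σ) : S.x p ∈ N S.u := S.h.mem_N_of_commute S.hu (S.x_u p)

theorem k_N (μ : F) (h : μ * σ μ = 1) : S.k μ h ∈ N S.u := S.h.mem_N_of_commute S.hu (S.k_u μ h)

theorem k_N' (μ : F) (h : μ * σ μ = 1) : S.k μ h ∈ N S.v := S.h.mem_N_of_commute S.hv (S.k_v μ h)

theorem x_mul (p r : Q σ) : S.x p * S.x r = S.x (p.add r) := by
  rw [x, x, ← map_mul, M.X_mul, x]

theorem x_o : S.x Q.o = 1 := map_one _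

theorem x_inv (p : Q σ) : (S.x p)⁻¹ = S.x p.neg := by rw [x, ← map_inv, M.X_inv, x]

theorem x_inj {p r : Q σ} (h : S.x p = S.x r) : p = r := M.X_inj (S.mod.inj h)

theorem k_x (μ : F) (h : μ * σ μ = 1) (p : Q σ) :
    S.k μ h * S.x p * (S.k μ h)⁻¹ = S.x (p.sc μ) := by
  rw [x, k, ← map_inv, ← map_mul, ← map_mul, M.K_X, x]

theorem k_one (h : 1 * σ 1 = 1) : S.k 1 h = 1 := map_one _

theorem k_ne {μ : F} (h : μ * σ μ = 1) (h1 : μ ≠ 1) : S.k μ h ≠ 1 := fun e =>
  h1 (congrArg M.μ ((map_eq_one_iff _ S.mod.inj).1 e))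

theorem k_pow (μ : F) (h : μ * σ μ = 1) : S.k μ h ^ (q + 1) = 1 := by
  rw [k, ← map_pow, M.K_pow S.hF, map_one]

theorem k_comm (μ ν : F) (h : μ * σ μ = 1) (h' : ν * σ ν = 1) : Commute (S.k μ h) (S.k ν h') :=
  (M.commute_of_a rfl rfl).map S.φ

theorem k_x_comm (μ : F) (h : μ * σ μ = 1) {p : Q σ} (hp : p.a = 0) : Commute (S.k μ h) (S.x p) :=
  (M.commute_of_a rfl hp).map S.φ

theorem exists_x_k {g : G} (hg : Commute g S.u) : ∃ p μ h, g = S.x p * S.k μ h := by
  obtain ⟨y, rfl⟩ := (S.mod.mem g).1 hg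
  exact ⟨y.q, y.μ, y.hμ, by rw [x, k, ← map_mul, ← M.eq_X_K]⟩

theorem rep_inv (p : Option (Q σ)) : IsInv (S.rep p) := by
  cases p with
  | none => exact S.hu
  | some p => exact S.hv.conj _

theorem rep_o : S.rep (some Q.o) = S.v := by simp [rep, x_o]

variable [CharP F 2] [Finite G]

theorem x_eq_one {p : Q σ} (h : S.x p ∈ N S.v) : S.x p = 1 :=
  eq_one_of_coprime (n := orderOf (S.x p)) (m := 2 ^ 2)
    (Nat.Coprime.pow_right 2 (Nat.coprime_two_right.2
      (S.h.odd_of_mem_N S.hu S.hv S.huv (S.x_N p) h))) (pow_orderOf_eq_one _)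
    (by rw [x, ← map_pow, M.pow_four rfl, map_one])

theorem exists_k {b : G} (h1 : Commute b S.u) (h2 : b ∈ N S.v) : ∃ μ h, b = S.k μ h := by
  obtain ⟨p, μ, h, rfl⟩ := S.exists_x_k h1
  refine ⟨μ, h, ?_⟩
  rw [S.x_eq_one (p := p) (by simpa using mul_mem h2 (inv_mem (S.k_N' μ h))), one_mul]

theorem rep_inj {p r : Option (Q σ)} (h : Commute (S.rep p) (S.rep r)) : p = r := by
  cases p with
  | none =>
    cases r with
    | none => rfl
    | some r => exact absurd h (Hyp2.not_commute_conj S.huv (S.x_N r))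
  | some p =>
    cases r with
    | none => exact absurd h.symm (Hyp2.not_commute_conj S.huv (S.x_N p))
    | some r =>
      have h1 : (S.x r)⁻¹ * S.x p ∈ N S.v := by
        rw [S.h.mem_N S.hv, ← commute_conj_iff (S.x r)]
        rwa [show S.x r * ((S.x r)⁻¹ * S.x p * S.v * ((S.x r)⁻¹ * S.x p)⁻¹) * (S.x r)⁻¹ =
          S.x p * S.v * (S.x p)⁻¹ by group]
      rw [x_inv, x_mul] at h1
      have h2 := S.x_eq_one h1
      rw [← x_mul, ← x_inv, inv_mul_eq_one] at h2
      rw [S.x_inj h2]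

omit [CharP F 2] in
theorem rep_surj {w : G} (hw : IsInv w) : ∃ p, Commute w (S.rep p) := by
  by_cases h : Commute S.u w
  · exact ⟨none, h.symm⟩
  · obtain ⟨y, h1, h2⟩ := S.h.two_trans S.hu S.hv hw S.huv h
    obtain ⟨p, μ, h, rfl⟩ := S.exists_x_k h1
    refine ⟨some p, ?_⟩
    rw [show S.x p * S.k μ h * S.v * (S.x p * S.k μ h)⁻¹ =
      S.x p * (S.k μ h * S.v * (S.k μ h)⁻¹) * (S.x p)⁻¹ by group,
      conj_eq_of_commute (S.k_v μ h)] at h2
    exact h2.symm

/-- The action on the points. -/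
noncomputable def act (g : G) (p : Option (Q σ)) : Option (Q σ) :=
  (S.rep_surj ((S.rep_inv p).conj g)).choose

theorem act_iff {g : G} {p r : Option (Q σ)} :
    S.act g p = r ↔ Commute (g * S.rep p * g⁻¹) (S.rep r) := by
  have h := (S.rep_surj ((S.rep_inv p).conj g)).choose_spec
  constructor
  · rintro rfl; exact h
  · intro e
    exact S.rep_inj (S.h.trans ((S.rep_inv p).conj g) (S.rep_inv r) e h.symm)

theorem act_one (p : Option (Q σ)) : S.act 1 p = p := S.act_iff.2 (by simp)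

theorem act_mul (g h : G) (p : Option (Q σ)) : S.act (g * h) p = S.act g (S.act h p) := by
  rw [S.act_iff]
  refine S.h.trans ((S.rep_inv (S.act h p)).conj g) (S.rep_inv _) (S.act_iff.1 rfl) ?_
  rw [show g * h * S.rep p * (g * h)⁻¹ = g * (h * S.rep p * h⁻¹) * g⁻¹ by group, commute_conj_iff]
  exact S.act_iff.1 rfl

theorem act_inv_act (g : G) (p : Option (Q σ)) : S.act g⁻¹ (S.act g p) = p := by
  rw [← act_mul, inv_mul_cancel, act_one]

theorem act_act_inv (g : G) (p : Option (Q σ)) : S.act g (S.act g⁻¹ p) = p := by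
  rw [← act_mul, mul_inv_cancel, act_one]

theorem act_inj (g : G) {p r : Option (Q σ)} (h : S.act g p = S.act g r) : p = r := by
  rw [← S.act_inv_act g p, h, act_inv_act]

theorem act_fix {g : G} {p : Option (Q σ)} : S.act g p = p ↔ g ∈ N (S.rep p) := by
  rw [act_iff, S.h.mem_N (S.rep_inv p)]

theorem act_none {g : G} : S.act g none = none ↔ g ∈ N S.u := S.act_fix

theorem act_o {g : G} : S.act g (some Q.o) = some Q.o ↔ g ∈ N S.v := by rw [act_fix, rep_o]

theorem act_conj {g e : G} {p : Option (Q σ)} (h : S.act e p = p) :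
    S.act (g * e * g⁻¹) (S.act g p) = S.act g p := by
  rw [act_mul, act_mul, act_inv_act, h]

theorem act_conj' {g e : G} {p : Option (Q σ)} :
    S.act (g⁻¹ * e * g) p = p ↔ S.act e (S.act g p) = S.act g p := by
  rw [act_mul, act_mul]
  exact ⟨fun h => by rw [← S.act_act_inv g (S.act e _), h], fun h => by rw [h, act_inv_act]⟩

theorem act_x (p r : Q σ) : S.act (S.x p) (some r) = some (p.add r) := by
  rw [act_iff, rep, rep, ← x_mul, show S.x p * (S.x r * S.v * (S.x r)⁻¹) * (S.x p)⁻¹ =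
    S.x p * S.x r * S.v * (S.x p * S.x r)⁻¹ by group]

theorem act_x_none (p : Q σ) : S.act (S.x p) none = none := S.act_none.2 (S.x_N p)

theorem act_x_o (p : Q σ) : S.act (S.x p) (some Q.o) = some p := by
  rw [act_x]; congr 1; ext <;> simp [Q.add, Q.o]

theorem act_t_none : S.act S.t none = some Q.o := by
  rw [act_iff, rep_o, rep, S.ht.inv_eq]; exact Commute.refl _

theorem act_t_t (p : Option (Q σ)) : S.act S.t (S.act S.t p) = p := by
  rw [← act_mul, S.ht.2, act_one]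

theorem act_t_o : S.act S.t (some Q.o) = none := by rw [← S.act_t_none, act_t_t]

theorem exists_act_none (p : Option (Q σ)) : ∃ g, S.act g none = p := by
  cases p with
  | none => exact ⟨1, S.act_one _⟩
  | some p => exact ⟨S.x p * S.t, by rw [act_mul, act_t_none, act_x_o]⟩

theorem exists_act_two {p r : Option (Q σ)} (h : p ≠ r) :
    ∃ g, S.act g none = p ∧ S.act g (some Q.o) = r := by
  obtain ⟨g, rfl⟩ := S.exists_act_none p
  obtain ⟨r', hr⟩ := Option.ne_none_iff_exists'.1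
    (show S.act g⁻¹ r ≠ none from fun e => h (by rw [← e, act_act_inv]))
  exact ⟨g * S.x r', by rw [act_mul, act_x_none], by rw [act_mul, act_x_o, ← hr, act_act_inv]⟩

/-- `d` acts as the scaling by `l`. -/
structure Sc (d : G) (l : F) : Prop where
  hu : d ∈ N S.u
  hv : d ∈ N S.v
  conj : ∀ p, d * S.x p * d⁻¹ = S.x (p.sc l)

variable {S}

theorem Sc.act {d : G} {l : F} (h : S.Sc d l) (p : Q σ) : S.act d (some p) = some (p.sc l) := by
  rw [act_iff, rep, rep, ← h.conj, show d * (S.x p * S.v * (S.x p)⁻¹) * d⁻¹ =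
    d * S.x p * d⁻¹ * (d * S.v * d⁻¹) * (d * S.x p * d⁻¹)⁻¹ by group, commute_conj_iff]
  exact (S.h.mem_N S.hv).1 h.hv

omit [CharP F 2] [Finite G] in
theorem Sc.mul {d e : G} {l m : F} (h : S.Sc d l) (h' : S.Sc e m) : S.Sc (d * e) (l * m) :=
  ⟨mul_mem h.hu h'.hu, mul_mem h.hv h'.hv, fun p => by
    rw [show d * e * S.x p * (d * e)⁻¹ = d * (e * S.x p * e⁻¹) * d⁻¹ by group, h'.conj, h.conj]
    congr 1
    ext <;> simp only [Q.sc, map_mul] <;> ring⟩

omit [CharP F 2] [Finite G] in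
theorem Sc.unique {d : G} {l m : F} (h : S.Sc d l) (h' : S.Sc d m) : l = m := by
  obtain ⟨ω, hω⟩ := S.hF.tr
  have := congrArg Q.a (S.x_inj ((h.conj ⟨1, ω, by simpa using hω⟩).symm.trans (h'.conj _)))
  simpa [Q.sc] using this

variable (S)

omit [CharP F 2] [Finite G] in
theorem sc_k (μ : F) (h : μ * σ μ = 1) : S.Sc (S.k μ h) μ := ⟨S.k_N μ h, S.k_N' μ h, S.k_x μ h⟩

omit [CharP F 2] [Finite G] in
theorem sc_one : S.Sc 1 1 := by
  have := S.sc_k 1 (by simp)
  rwa [k_one] at this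

omit [CharP F 2] [Finite G] in
theorem Sc.pow {S : Setup σ q G} {d : G} {l : F} (h : S.Sc d l) (n : ℕ) : S.Sc (d ^ n) (l ^ n) := by
  induction n with
  | zero => simpa using S.sc_one
  | succ n ih => rw [pow_succ, pow_succ]; exact ih.mul h

omit [CharP F 2] in
theorem t_k (μ : F) (h : μ * σ μ = 1) : Commute (S.k μ h) S.t :=
  S.h.commute_swap S.hu S.ht S.htu (S.k_u μ h) (S.k_v μ h)

theorem D_k {d : G} (h1 : d ∈ N S.u) (h2 : d ∈ N S.v) (μ : F) (h : μ * σ μ = 1) :
    Commute (S.k μ h) d := by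
  obtain ⟨l, b, h3, -, h4, h5, h6, rfl⟩ := S.h.exists_K_B S.hu S.ht S.htu h1 h2
  obtain ⟨ν, hν, rfl⟩ := S.exists_k h5 (S.h.mem_N_of_commute S.hv h6)
  exact (S.h.commute_K S.hu S.ht S.htu (S.k_u μ h) (S.k_v μ h) h3 h4).mul_right (S.k_comm _ _ _ _)

theorem exists_sc {d : G} (h1 : d ∈ N S.u) (h2 : d ∈ N S.v) : ∃ l, l ≠ 0 ∧ S.Sc d l := by
  have h20 := CharTwo.two_eq_zero (R := F)
  have : ∀ p, ∃ r, d * S.x p * d⁻¹ = S.x r := fun p => by
    obtain ⟨y, hy⟩ := (S.mod.mem _).1 (conj_commute h1 (S.x_u p))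
    refine ⟨y.q, ?_⟩
    rw [← hy, x, ← M.eq_X (M.eq_one_of_pow (k := 2) ?_)]
    rw [← M.pow_μ, show y ^ 2 ^ 2 = 1 from S.mod.inj (by
      rw [map_pow, hy, conj_pow, x, ← map_pow, M.pow_four rfl]; simp), M.one_μ]
  choose θ hθ using this
  have θadd : ∀ p r, θ (p.add r) = (θ p).add (θ r) := fun p r => S.x_inj (by
    rw [← hθ, ← x_mul, ← x_mul, ← hθ, ← hθ]; group)
  have θsc : ∀ μ, μ * σ μ = 1 → ∀ p, θ (p.sc μ) = (θ p).sc μ := fun μ h p => S.x_inj (by
    rw [← hθ, ← S.k_x μ h, ← S.k_x μ h, ← hθ]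
    have := (S.D_k h1 h2 μ h).eq
    calc d * (S.k μ h * S.x p * (S.k μ h)⁻¹) * d⁻¹
        = (d * S.k μ h) * S.x p * (d * S.k μ h)⁻¹ := by group
      _ = _ := by rw [← this]; group)
  obtain ⟨ν, hν, hν1⟩ := S.hF.exists_norm
  have θz : ∀ p, p.a = 0 → (θ p).a = 0 := fun p hp => by
    have e : p.sc ν = p := by ext <;> simp [Q.sc, hp, hν]
    have := congrArg Q.a (θsc ν hν p)
    rw [e] at this
    by_contra hne
    exact hν1 (mul_right_cancel₀ hne (this.symm.trans (one_mul _).symm))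
  obtain ⟨ω, hω⟩ := S.hF.tr
  let s : F → Q σ := fun a => ⟨a, ω * (a * σ a), by
    simp only [map_mul, σσ]; linear_combination a * σ a * hω⟩
  have hz : ∀ p r : Q σ, p.a = r.a → ∃ z : Q σ, z.a = 0 ∧ p = r.add z := fun p r e =>
    ⟨⟨0, p.b - r.b, by
      simp only [map_sub, map_zero, mul_zero]
      linear_combination p.hab - r.hab + σ p.a * e + r.a * congrArg σ e⟩, rfl, by
      ext <;> simp [Q.add, e]⟩
  have ha : ∀ p r : Q σ, p.a = r.a → (θ p).a = (θ r).a := fun p r e => by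
    obtain ⟨z, h3, rfl⟩ := hz p r e
    rw [θadd]; simp [Q.add, θz z h3]
  obtain ⟨l, hl⟩ : ∃ l, ∀ p, (θ p).a = l * p.a := ⟨(θ (s 1)).a, fun p => by
    rw [ha p (s p.a) rfl, mul_comm]
    exact S.hF.eq_mul (fun a => (θ (s a)).a)
      (fun a b => by rw [ha (s (a + b)) ((s a).add (s b)) rfl, θadd]; rfl)
      (fun μ a h => by rw [ha (s (μ * a)) ((s a).sc μ) rfl, θsc μ h]; rfl) p.a⟩
  have hzb : ∀ z : Q σ, z.a = 0 → (θ z).b = l * σ l * z.b := fun z h3 => by
    have := S.hF.finite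
    obtain ⟨a, h4⟩ := isSquare_of_charTwo' z.b
    have h5 : σ a = a := by
      have h6 : (σ a - a) ^ 2 = 0 := by
        have h7 := z.hab
        rw [h3, zero_mul, h4, map_mul] at h7
        linear_combination h7 - a * σ a * h20
      exact sub_eq_zero.1 (pow_eq_zero_iff two_ne_zero |>.1 h6)
    have e : z = (s a).add (s a) := by
      ext
      · simp [Q.add, s, h3, CharTwo.add_self_eq_zero]
      · simp [Q.add, s, h4, h5, CharTwo.add_self_eq_zero]
    rw [e, θadd]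
    simp only [Q.add, hl, s, map_mul, CharTwo.add_self_eq_zero, zero_add]
    ring
  let ψ : Q σ → F := fun p => (θ p).b - l * σ l * p.b
  have ψa : ∀ p r : Q σ, p.a = r.a → ψ p = ψ r := fun p r e => by
    obtain ⟨z, h3, rfl⟩ := hz p r e
    simp only [ψ, θadd]
    simp only [Q.add, θz z h3, hzb z h3, h3]
    ring
  have ψadd : ∀ p r : Q σ, ψ (p.add r) = ψ p + ψ r := fun p r => by
    simp only [ψ, θadd]
    simp only [Q.add, hl, map_mul]
    ring
  have ψsc : ∀ p : Q σ, ψ (p.sc ν) = ψ p := fun p => by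
    simp only [ψ, θsc ν hν]
    simp only [Q.sc, hν, one_mul]
  have ψ0 : ∀ p, ψ p = 0 := fun p => by
    have h3 : ν + 1 ≠ 0 := fun e => hν1 (by linear_combination e - h20)
    rw [ψa p (((s (p.a / (ν + 1))).sc ν).add (s (p.a / (ν + 1)))) (by
      simp only [Q.add, Q.sc, s]; field_simp), ψadd, ψsc, CharTwo.add_self_eq_zero]
  have hc : ∀ p, θ p = p.sc l := fun p => Q.ext (hl p) (sub_eq_zero.1 (ψ0 p))
  refine ⟨l, fun e => ?_, h1, h2, fun p => by rw [hθ, hc]⟩
  have h3 := hθ (s 1)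
  rw [hc, e, show (s 1).sc 0 = Q.o by ext <;> simp [Q.sc, Q.o], x_o, conj_eq_one_iff, ← S.x_o] at h3
  simpa [s, Q.o] using congrArg Q.a (S.x_inj h3)

theorem exists_sc_t {l : F} (hl : l ≠ 0) :
    ∃ d, S.Sc d l ∧ S.Sc (S.t * d * S.t) (σ l)⁻¹ := by
  have hσ : σ l ≠ 0 := (map_ne_zero σ).2 hl
  have i1 := S.mod.isInv_X (map_one σ) one_ne_zero
  have i2 := S.mod.isInv_X (c := l * σ l) (by simp [mul_comm]) (mul_ne_zero hl hσ)
  obtain ⟨g, hg⟩ := S.h.exists_conj i1 i2
  have h1 : g ∈ N S.u := by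
    rw [← S.h.N_eq i1 S.hu (S.mod.commute _), S.h.mem_N i1, hg]
    exact (M.commute_of_a rfl rfl).map S.φ
  obtain ⟨d, h2, h3, h4, h5⟩ := S.h.exists_K S.hu S.ht S.htu h1
  obtain ⟨m, hm, h6⟩ := S.exists_sc h2 h3
  have h7 : m * σ m = l * σ l := by
    have e1 := h6.conj ⟨0, 1, by simp [CharTwo.add_self_eq_zero]⟩
    have e2 := conj_eq_of_commute (S.h.trans S.hu i1 (S.mod.commute _).symm h5)
    rw [x, ← e2] at e1
    rw [show ∀ y : G, d * (d⁻¹ * g * y * (d⁻¹ * g)⁻¹) * d⁻¹ = g * y * g⁻¹ from fun y => by group,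
      hg] at e1
    simpa [Q.sc] using (congrArg M.b (S.mod.inj e1)).symm
  have h8 : σ m = m := by
    have e1 := h6.pow (q - 1)
    rw [S.h.pow_K S.hu S.ht S.htu h2 h4] at e1
    have := S.hF.two_lt
    rw [S.hF.pow, show q = q - 1 + 1 by omega, pow_succ, e1.unique S.sc_one, one_mul]
  have h9 : l / m * σ (l / m) = 1 := by
    rw [map_div₀, div_mul_div_comm, h7, div_self (mul_ne_zero hl hσ)]
  obtain ⟨m', -, h10⟩ := S.exists_sc (inv_mem h2) (inv_mem h3)
  have h11 : m * m' = 1 := by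
    have := h6.mul h10
    rw [mul_inv_cancel] at this
    exact this.unique S.sc_one
  refine ⟨d * S.k _ h9, by simpa [mul_div_cancel₀ _ hm] using h6.mul (S.sc_k _ h9), ?_⟩
  rw [← mul_assoc, mul_assoc _ (S.k _ h9), (S.t_k _ h9).eq, ← mul_assoc, h4]
  convert h10.mul (S.sc_k _ h9) using 1
  rw [eq_inv_of_mul_eq_one_right h11]
  rw [h8] at h7
  field_simp
  linear_combination h7

end Setup

end Cfsg.Agent.AIC
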