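import Cfsg.Agent.Lib.AIC.UM

/-!
# Groups whose involution centralizers are those of `PGU₃(q)`, `q` even: the local setup
-/

set_option autoImplicit false

namespace Cfsg.Agent.AIC

variable {F : Type*} [Field F] {σ : F →+* F} {q : ℕ} {G : Type*} [Group G]

namespace FD

variable (hF : FD σ q)
include hF

theorem finite : Finite F := Nat.finite_of_card_ne_zero (by
  rw [hF.card]; have := hF.two_lt; positivity)

theorem exists_fixed : ∃ c : F, σ c = c ∧ c ≠ 0 ∧ c ≠ 1 := by
  have := hF.finite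
  have := Fintype.ofFinite {x : F // σ x = x}
  obtain ⟨a, b, c, hab, hac, hbc⟩ := Fintype.two_lt_card_iff.1
    (show 2 < Fintype.card {x : F // σ x = x} by
      rw [← Nat.card_eq_fintype_card, hF.cardF]; exact hF.two_lt)
  by_contra h
  push Not at h
  have key : ∀ x : {x : F // σ x = x}, x.1 = 0 ∨ x.1 = 1 := fun x =>
    or_iff_not_imp_left.2 (h x.1 x.2)
  rcases key a with h1 | h1 <;> rcases key b with h2 | h2 <;> rcases key c with h3 | h3 <;>
    first
    | exact hab (Subtype.ext (h1.trans h2.symm))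
    | exact hac (Subtype.ext (h1.trans h3.symm))
    | exact hbc (Subtype.ext (h2.trans h3.symm))

theorem exists_norm : ∃ ν : F, ν * σ ν = 1 ∧ ν ≠ 1 := by
  have := hF.finite
  have : Nontrivial {x : F // x * σ x = 1} := Finite.one_lt_card_iff_nontrivial.1 (by
    rw [hF.cardN]; have := hF.two_lt; omega)
  obtain ⟨x, hx⟩ := exists_ne (⟨1, by simp⟩ : {x : F // x * σ x = 1})
  exact ⟨x.1, x.2, fun e => hx (Subtype.ext e)⟩

theorem coprime : (q - 1).Coprime (q + 1) := by
  obtain ⟨k, hk⟩ := hF.even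
  have h2 := hF.two_lt
  rw [show q + 1 = 2 + (q - 1) by omega, Nat.coprime_add_self_right, Nat.coprime_two_right]
  exact ⟨k - 1, by omega⟩

theorem odd : Odd (q + 1) := hF.even.add_one

/-- An additive map commuting with the elements of norm one is a scalar multiplication. -/
theorem eq_mul (f : F → F) (h1 : ∀ a b, f (a + b) = f a + f b)
    (h2 : ∀ ν a, ν * σ ν = 1 → f (ν * a) = ν * f a) (a : F) : f a = a * f 1 := by
  have := hF.finite
  let f' : F →+ F := AddMonoidHom.mk' f h1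
  let S : Subfield F :=
    { carrier := {c | ∀ a, f' (c * a) = c * f' a}
      mul_mem' := fun {x y} hx hy a => by rw [mul_assoc, hx, hy, mul_assoc]
      one_mem' := fun a => by simp
      add_mem' := fun {x y} hx hy a => by rw [add_mul, map_add, hx, hy, add_mul]
      zero_mem' := fun a => by simp
      neg_mem' := fun {x} hx a => by rw [neg_mul, map_neg, hx, neg_mul]
      inv_mem' := fun x hx a => by
        by_cases h0 : x = 0
        · simp [h0]
        · rw [eq_inv_mul_iff_mul_eq₀ h0, ← hx, mul_inv_cancel_left₀ h0] }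
  have hS : q + 1 ≤ Nat.card S := by
    rw [← hF.cardN]
    exact Nat.card_le_card_of_injective (fun x => ⟨x.1, fun a => h2 x.1 a x.2⟩)
      fun x y e => Subtype.ext (congrArg (fun z : S => (z : F)) e)
  by_cases ha : a ∈ S
  · have := ha 1
    rwa [mul_one] at this
  · have h3 := Nat.card_le_card_of_injective (fun p : S × S => (p.1 : F) + a * p.2) (by
      rintro ⟨x, y⟩ ⟨x', y'⟩ e
      simp only at e
      by_cases hy : y = y'
      · subst hy
        rw [Subtype.ext (add_right_cancel e)]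
      · refine absurd ?_ ha
        have h4 : (y : F) - y' ≠ 0 := sub_ne_zero.2 fun e => hy (Subtype.ext e)
        have : a = (x' - x : S) / (y - y' : S) := by
          push_cast
          rw [eq_div_iff h4]; linear_combination e
        rw [this]
        exact div_mem (Subtype.mem _) (Subtype.mem _))
    rw [Nat.card_prod, hF.card] at h3
    nlinarith

end FD

variable [Invol σ] [CharP F 2]

/-- `φ` is an isomorphism of the model onto the centralizer of `u`. -/
structure Mod (u : G) (φ : M σ →* G) : Prop where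
  inj : Function.Injective φ
  mem : ∀ g, Commute g u ↔ ∃ x, φ x = g

namespace Mod

variable {u : G} {φ : M σ →* G} (h : Mod u φ)
include h

omit [CharP F 2] in
theorem commute (x : M σ) : Commute (φ x) u := (h.mem _).2 ⟨x, rfl⟩

omit [CharP F 2] in
theorem isInv_iff {x : M σ} : IsInv (φ x) ↔ IsInv x := by
  simp only [IsInv, ← map_mul, ne_eq, map_eq_one_iff φ h.inj]

omit [CharP F 2] in
theorem commute_iff {x y : M σ} : Commute (φ x) (φ y) ↔ Commute x y :=
  ⟨fun e => h.inj (by rw [map_mul, map_mul]; exact e), fun e => e.map φ⟩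

omit [CharP F 2] in
theorem card : Nat.card (T u) = Nat.card (M σ) :=
  (Nat.card_eq_of_bijective (fun x => (⟨φ x, mem_T.2 (h.commute x)⟩ : T u))
    ⟨fun _ _ e => h.inj (congrArg Subtype.val e), fun y => by
      obtain ⟨x, hx⟩ := (h.mem _).1 (mem_T.1 y.2)
      exact ⟨x, Subtype.ext hx⟩⟩).symm

theorem isInv_X {c : F} (hc : σ c = c) (h0 : c ≠ 0) :
    IsInv (φ (M.X ⟨0, c, by simp [hc, CharTwo.add_self_eq_zero]⟩)) :=
  h.isInv_iff.2 ⟨fun e => h0 (congrArg M.b e), M.mul_self_iff.2 ⟨rfl, rfl⟩⟩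

theorem card_inv (hF : FD σ q) : Nat.card {s : G // IsInv s ∧ Commute s u} = q - 1 := by
  have := hF.finite
  have h1 : Nat.card (Option {s : G // IsInv s ∧ Commute s u}) = q := by
    rw [← hF.cardF]
    symm
    classical
    refine Nat.card_eq_of_bijective (fun c => if h0 : c.1 = 0 then none else
      some ⟨_, h.isInv_X c.2 h0, h.commute _⟩) ⟨fun c d e => ?_, fun s => ?_⟩
    · by_cases hc : c.1 = 0 <;> by_cases hd : d.1 = 0
      · exact Subtype.ext (hc.trans hd.symm)
      · simp [hc, hd] at e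
      · simp [hc, hd] at e
      · simp only [dif_neg hc, dif_neg hd, Option.some.injEq, Subtype.mk.injEq] at e
        exact Subtype.ext (congrArg M.b (h.inj e))
    · cases s with
      | none => exact ⟨⟨0, map_zero _⟩, by simp⟩
      | some s =>
        obtain ⟨x, hx⟩ := (h.mem _).1 s.2.2
        have h2 := h.isInv_iff.1 (hx ▸ s.2.1)
        obtain ⟨h3, h4⟩ := M.mul_self_iff.1 h2.2
        have h5 : σ x.b = x.b := by
          have := x.hab
          rw [h3, zero_mul] at this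
          linear_combination this - x.b * (CharTwo.two_eq_zero (R := F))
        have h6 : x.b ≠ 0 := fun e => h2.1 (M.ext h3 e h4)
        refine ⟨⟨x.b, h5⟩, ?_⟩
        simp only [dif_neg h6, Option.some.injEq]
        exact Subtype.ext (by rw [← hx]; exact congrArg φ (M.ext h3.symm rfl h4.symm))
  by_cases hf : Finite {s : G // IsInv s ∧ Commute s u}
  · rw [Finite.card_option] at h1; omega
  · have := not_finite_iff_infinite.1 hf
    have h2 := hF.two_lt
    rw [Nat.card_eq_zero_of_infinite] at h1; omega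

theorem exists_conj_K (hF : FD σ q) {g : G} (hg : Commute g u) (ho : Odd (orderOf g)) :
    ∃ c μ hμ, φ c * g * (φ c)⁻¹ = φ (M.K μ hμ) := by
  obtain ⟨x, rfl⟩ := (h.mem _).1 hg
  rw [orderOf_injective φ h.inj] at ho
  obtain ⟨c, hc⟩ := M.exists_conj_K ho hF.tr
  exact ⟨c, _, _, by rw [← hc, map_mul, map_mul, map_inv]⟩

theorem comm_of_odd (hF : FD σ q) {g : G} (hg : Commute g u) (ho : Odd (orderOf g)) (h1 : g ≠ 1)
    {a b : G} (ha : Commute a u) (hb : Commute b u) (ha' : Commute a g) (hb' : Commute b g) :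
    Commute a b := by
  obtain ⟨c, μ, hμ, e⟩ := h.exists_conj_K hF hg ho
  have h2 : μ ≠ 1 := fun e1 => h1 (by
    subst e1
    have : φ c * g * (φ c)⁻¹ = 1 := by rw [e]; exact map_one φ
    simpa using conj_eq_one_iff.1 this)
  obtain ⟨x, rfl⟩ := (h.mem _).1 ha
  obtain ⟨y, rfl⟩ := (h.mem _).1 hb
  rw [← commute_conj_iff (φ c), e, ← map_inv, ← map_mul, ← map_mul, h.commute_iff] at ha' hb'
  rw [← commute_conj_iff (φ c), ← map_inv, ← map_mul, ← map_mul, ← map_mul, ← map_mul,
    h.commute_iff]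
  exact M.commute_of_a (M.a_of_commute rfl h2 ha'.symm) (M.a_of_commute rfl h2 hb'.symm)

end Mod

theorem hyp3 [Finite G] (hF : FD σ q) (hM : ∀ u : G, IsInv u → ∃ φ : M σ →* G, Mod u φ)
    (nc : ∃ u v : G, IsInv u ∧ IsInv v ∧ ¬ Commute u v) : Hyp3 G (q - 1) (q + 1) := by
  have h2 : Hyp2 G := by
    refine ⟨fun {u v x} hu hv huv hx => ?_, nc, ?_⟩
    · obtain ⟨φ, h⟩ := hM u hu
      obtain ⟨y, rfl⟩ := (h.mem _).1 huv.symm
      obtain ⟨z, rfl⟩ := (h.mem _).1 hx
      obtain ⟨h1, h2⟩ := M.mul_self_iff.1 (h.isInv_iff.1 hv).2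
      exact (M.commute_of_central h1 h2 z).symm.map φ
    · obtain ⟨u, -, hu, -⟩ := nc
      obtain ⟨φ, h⟩ := hM u hu
      obtain ⟨c, h1, h2, h3⟩ := hF.exists_fixed
      exact ⟨_, _, h.isInv_X h1 h2, h.isInv_X (map_one σ) one_ne_zero,
        fun e => h3 (congrArg M.b (h.inj e)), (M.commute_of_a rfl rfl).map φ⟩
  refine ⟨h2, hF.coprime, fun {u g} hu hg => ?_, fun {u g} hu hg ho => ?_⟩
  · obtain ⟨φ, h⟩ := hM u hu
    rw [← h.card_inv hF]
    exact h2.pow_card_commute hu hg
  · obtain ⟨φ, h⟩ := hM u hu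
    obtain ⟨c, μ, hμ, e⟩ := h.exists_conj_K hF hg ho
    have := congrArg (· ^ (q + 1)) e
    simp only [conj_pow, ← map_pow, M.K_pow hF, map_one] at this
    simpa using conj_eq_one_iff.1 this

/-- The local setup. -/
structure Setup (σ : F →+* F) [Invol σ] (q : ℕ) (G : Type*) [Group G] where
  hF : FD σ q
  h : Hyp3 G (q - 1) (q + 1)
  /-- the involution at infinity -/
  u : G
  /-- the swapping involution -/
  t : G
  /-- the model -/
  φ : M σ →* G
  hu : IsInv u
  ht : IsInv t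
  htu : ¬ Commute t u
  mod : Mod u φ
  hK : ∀ μ hμ, Commute (φ (M.K μ hμ)) (t * u * t)

theorem exists_setup [Finite G] (hF : FD σ q) (hM : ∀ u : G, IsInv u → ∃ φ : M σ →* G, Mod u φ)
    (nc : ∃ u v : G, IsInv u ∧ IsInv v ∧ ¬ Commute u v) : Nonempty (Setup σ q G) := by
  have h := hyp3 hF hM nc
  obtain ⟨u, v, hu, hv, huv⟩ := nc
  obtain ⟨φ, hφ⟩ := hM u hu
  obtain ⟨b, hb1, hbu, hbv⟩ := h.exists_B hu hv huv (fun r hr hrq e => by
    rw [hφ.card, M.card hF] at e
    have h1 : q ≡ 1 [MOD r] := ((Nat.modEq_iff_dvd' (by have := hF.two_lt; omega)).2 hrq).symm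
    have h2 : q ^ 2 * q * (q + 1) ≡ 1 ^ 2 * 1 * (1 + 1) [MOD r] :=
      ((h1.pow 2).mul h1).mul (h1.add_right 1)
    have h3 := (Nat.modEq_iff_dvd' (by norm_num)).1 (e.symm.trans h2)
    exact hr.one_lt.ne' (by simpa using h3))
  have hbo := h.odd_of_mem_N hu hv huv (h.mem_N_of_commute hu hbu) (h.mem_N_of_commute hv hbv)
  obtain ⟨c, μ, hμ, e⟩ := hφ.exists_conj_K hF hbu hbo
  have hw := hv.conj (φ c)
  have huw := Hyp2.not_commute_conj huv (h.mem_N_of_commute hu (hφ.commute c))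
  have h1 : Commute (φ (M.K μ hμ)) (φ c * v * (φ c)⁻¹) := by rwa [← e, commute_conj_iff]
  have h2 : φ (M.K μ hμ) ≠ 1 := by
    rw [← e]; simpa using hb1
  have h3 : Odd (orderOf (φ (M.K μ hμ))) := by
    rw [← e]; rwa [← MulAut.conj_apply, MulEquiv.orderOf_eq]
  generalize φ c * v * (φ c)⁻¹ = w at hw huw h1
  obtain ⟨t, ht, htu, rfl⟩ := h.exists_swap hu hw huw
  refine ⟨⟨hF, h, u, t, φ, hu, ht, htu, hφ, fun ν hν => ?_⟩⟩
  let H := T (φ (M.K μ hμ))
  have hmem : ∀ x : M σ, x.a = 0 → φ x ∈ H := fun x hx => mem_T.2 ((M.commute_of_a hx rfl).map φ)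
  have huH : u ∈ H := mem_T.2 (hφ.commute _).symm
  have h' : Hyp H := by
    refine ⟨fun {s a b} hs ha hb => ?_, ⟨⟨u, huH⟩, ⟨_, mem_T.2 h1.symm⟩,
      isInv_coe.1 hu, isInv_coe.1 hw, fun e => huw (commute_coe.2 e)⟩, ?_⟩
    · obtain ⟨ψ, hψ⟩ := hM s (isInv_coe.2 hs)
      exact commute_coe.1 (hψ.comm_of_odd hF (mem_T.1 s.2).symm h3 h2 (commute_coe.2 ha)
        (commute_coe.2 hb) (mem_T.1 a.2) (mem_T.1 b.2))
    · obtain ⟨c, h4, h5, h6⟩ := hF.exists_fixed
      exact ⟨⟨_, hmem _ rfl⟩, ⟨_, hmem _ rfl⟩, isInv_coe.1 (hφ.isInv_X h4 h5),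
        isInv_coe.1 (hφ.isInv_X (map_one σ) one_ne_zero),
        fun e => h6 (congrArg M.b (hφ.inj (congrArg Subtype.val e))),
        commute_coe.1 ((M.commute_of_a rfl rfl).map φ)⟩
  have h4 := h'.sq_mem_center h'.tiz ⟨u, huH⟩ ⟨_, hmem (M.K ν hν) rfl⟩ (isInv_coe.1 hu)
    (commute_coe.1 (hφ.commute _))
  have h5 := mem_of_sq_mem (hF.odd.of_dvd_nat (orderOf_dvd_of_pow_eq_one (Subtype.ext (by
    change φ (M.K ν hν) ^ (q + 1) = 1
    rw [← map_pow, M.K_pow hF, map_one])))) h4
  exact commute_coe.2 (center_commute h5 ⟨_, mem_T.2 h1.symm⟩)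

end Cfsg.Agent.AIC
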