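import Cfsg.Agent.Lib.AIC.UTau
import Cfsg.Agent.Lib.SL2.SylowAux

/-!
# Groups whose involution centralizers are those of `PGU₃(q)`, `q` even: uniqueness
-/

set_option autoImplicit false

namespace Cfsg.Agent.AIC

variable {F : Type*} [Field F] {σ : F →+* F} {q : ℕ} {G H : Type*} [Group G] [Group H] [Invol σ]

namespace Setup

variable (S : Setup σ q G) (S' : Setup σ q H) [CharP F 2] [Finite G] [Finite H]

theorem exists_rel (g : G) : ∃ h, ∀ p, S.act g p = S'.act h p := by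
  have hmul : ∀ a b : G, (∃ h, ∀ p, S.act a p = S'.act h p) → (∃ h, ∀ p, S.act b p = S'.act h p) →
      ∃ h, ∀ p, S.act (a * b) p = S'.act h p := by
    rintro a b ⟨a', ha⟩ ⟨b', hb⟩
    exact ⟨a' * b', fun p => by rw [act_mul, act_mul, ha, hb]⟩
  have hx : ∀ r, ∃ h, ∀ p, S.act (S.x r) p = S'.act h p := fun r => ⟨S'.x r, fun p => by
    cases p with
    | none => rw [act_x_none, act_x_none]
    | some p => rw [act_x, act_x]⟩
  have hN : ∀ a, S.act a none = none → ∃ h, ∀ p, S.act a p = S'.act h p := fun a ha => by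
    obtain ⟨r, hr⟩ := Option.ne_none_iff_exists'.1 (show S.act a (some Q.o) ≠ none from fun e =>
      absurd (S.act_inj a (e.trans ha.symm)) (by simp))
    have h1 : S.act ((S.x r)⁻¹ * a) none = none := by rw [act_mul, ha, x_inv, act_x_none]
    have h2 : S.act ((S.x r)⁻¹ * a) (some Q.o) = some Q.o := by
      rw [act_mul, hr, ← S.act_x_o r, act_inv_act]
    obtain ⟨l, hl, h3⟩ := S.exists_sc (S.act_none.1 h1) (S.act_o.1 h2)
    obtain ⟨d, hd, -⟩ := S'.exists_sc_t hl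
    rw [← mul_inv_cancel_left (S.x r) a]
    refine hmul _ _ (hx r) ⟨d, fun p => ?_⟩
    cases p with
    | none => rw [h1, S'.act_none.2 hd.hu]
    | some p => rw [h3.act, hd.act]
  have ht : ∃ h, ∀ p, S.act S.t p = S'.act h p := by
    obtain ⟨c, hc, hcσ, h1⟩ := S.exists_tau
    obtain ⟨c', hc', hcσ', h1'⟩ := S'.exists_tau
    obtain ⟨d, hd, -⟩ := S'.exists_sc_t (div_ne_zero hc hc')
    refine ⟨d * S'.t, fun p => ?_⟩
    rw [act_mul]
    cases p with
    | none => rw [act_t_none, act_t_none, S'.act_o.2 hd.hv]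
    | some p =>
      by_cases hb : p.b = 0
      · obtain rfl : p = Q.o := Q.ext (by_contra fun e => Q.b_ne e hb) hb
        rw [act_t_o, act_t_o, S'.act_none.2 hd.hu]
      · obtain ⟨r, e1, e2, e3⟩ := h1 p hb
        obtain ⟨r', e1', e2', e3'⟩ := h1' p hb
        rw [e1, e1', hd.act]
        congr 1
        ext
        · refine mul_right_cancel₀ hb ?_
          simp only [Q.sc]
          rw [e2, mul_assoc, e2']; field_simp
        · refine mul_right_cancel₀ hb ?_
          simp only [Q.sc]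
          rw [e3, mul_assoc, e3', map_div₀, hcσ, hcσ']; field_simp
  cases e : S.act g none with
  | none => exact hN g e
  | some r =>
    rw [← mul_inv_cancel_left (S.x r * S.t) g]
    refine hmul _ _ (hmul _ _ (hx r) ht) (hN _ ?_)
    rw [act_mul, e, ← S.act_x_o r, ← S.act_t_none, ← S.act_mul (S.x r), act_inv_act]

theorem eq_of_act {g h : G} (e : ∀ p, S.act g p = S.act h p) : g = h :=
  (inv_mul_eq_one.1 (S.eq_one_of_act fun p => by rw [act_mul, e, act_inv_act])).symm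

include S S' in
theorem nonempty_equiv : Nonempty (G ≃* H) := by
  choose f hf using S.exists_rel S'
  choose f' hf' using S'.exists_rel S
  exact ⟨
    { toFun := f
      invFun := f'
      left_inv := fun g => S.eq_of_act fun p => by rw [← hf', ← hf]
      right_inv := fun g => S'.eq_of_act fun p => by rw [← hf, ← hf']
      map_mul' := fun a b => S'.eq_of_act fun p => by rw [act_mul, ← hf, ← hf, ← hf, act_mul] }⟩

end Setup

theorem Mod.transport {y : H} {u : G} {φ : M σ →* H} (h : Mod y φ) (e : T u ≃* T y) :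
    ∃ ψ : M σ →* G, Mod u ψ := by
  refine ⟨(T u).subtype.comp (e.symm.toMonoidHom.comp
    (φ.codRestrict (T y) fun x => mem_T.2 (h.commute x))), fun a b hab => ?_, fun g => ⟨fun hg => ?_, ?_⟩⟩
  · exact h.inj (congrArg Subtype.val (e.symm.injective (Subtype.ext hab)))
  · obtain ⟨x, hx⟩ := (h.mem _).1 (mem_T.1 (e ⟨g, mem_T.2 hg⟩).2)
    refine ⟨x, ?_⟩
    change (e.symm ⟨φ x, _⟩ : G) = g
    simp [hx]
  · rintro ⟨x, rfl⟩
    exact mem_T.1 (Subtype.mem _)

theorem exists_not_commute [CharP F 2] [Finite G] (hM : ∀ u : G, IsInv u → ∃ φ : M σ →* G, Mod u φ)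
    (hS : ∀ P : Sylow 2 G, ¬ (P : Subgroup G).Normal) :
    ∃ u v : G, IsInv u ∧ IsInv v ∧ ¬ Commute u v := by
  have : Fact (Nat.Prime 2) := ⟨Nat.prime_two⟩
  by_contra hc
  push Not at hc
  obtain ⟨P⟩ : Nonempty (Sylow 2 G) := inferInstance
  refine hS P ?_
  by_cases hP : (P : Subgroup G) = ⊥
  · rw [hP]; infer_instance
  obtain ⟨z, hz, hz2, hz3⟩ := SL2.exists_central_of_isPGroup P.isPGroup' hP
  have hzi := isInv_iff.2 hz2
  obtain ⟨φ, hφ⟩ := hM z hzi
  let R : Subgroup G :=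
    { carrier := {g | ∃ y, y.μ = 1 ∧ φ y = g}
      mul_mem' := by
        rintro _ _ ⟨a, ha, rfl⟩ ⟨b, hb, rfl⟩
        exact ⟨a * b, by simp [ha, hb], map_mul _ _ _⟩
      one_mem' := ⟨1, rfl, map_one _⟩
      inv_mem' := by
        rintro _ ⟨a, ha, rfl⟩
        exact ⟨a⁻¹, by simp [ha], map_inv _ _⟩ }
  have hR : ∀ g k, Commute g z → g ^ 2 ^ k = 1 → g ∈ R := fun g k h1 h2 => by
    obtain ⟨y, rfl⟩ := (hφ.mem g).1 h1
    refine ⟨y, M.eq_one_of_pow (k := k) ?_, rfl⟩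
    rw [← M.pow_μ, show y ^ 2 ^ k = 1 from hφ.inj (by rw [map_pow, h2, map_one]), M.one_μ]
  have hP2 : ∀ x ∈ (P : Subgroup G), ∃ k, x ^ 2 ^ k = 1 := fun x hx => by
    obtain ⟨k, hk⟩ := P.isPGroup' ⟨x, hx⟩
    exact ⟨k, congrArg Subtype.val hk⟩
  have hRP : R = P := P.is_maximal' (by
    rintro ⟨_, y, hy, rfl⟩
    exact ⟨2, Subtype.ext (by
      change φ y ^ 2 ^ 2 = 1
      rw [← map_pow, M.pow_four hy, map_one])⟩) fun x hx => by
      obtain ⟨k, hk⟩ := hP2 x hx
      exact hR x k (hz3 x hx) hk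
  refine ⟨fun x hx g => ?_⟩
  obtain ⟨k, hk⟩ := hP2 x hx
  rw [← hRP]
  refine hR _ k ?_ (by rw [conj_pow, hk]; simp)
  obtain ⟨ψ, hψ⟩ := hM _ (hzi.conj g)
  obtain ⟨a, ha⟩ := (hψ.mem _).1 ((commute_conj_iff g x z).2 (hz3 x hx))
  obtain ⟨b, hb⟩ := (hψ.mem _).1 (hc _ _ hzi (hzi.conj g))
  obtain ⟨h1, h2⟩ := M.mul_self_iff.1 (hψ.isInv_iff.1 (hb ▸ hzi)).2
  rw [← ha, ← hb]
  exact (M.commute_of_central h1 h2 a).symm.map ψ

end Cfsg.Agent.AIC
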