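import Cfsg.Agent.Lib.AIC.Gen
import Cfsg.Agent.Lib.Forms.Card

/-!
# The centralizer of an involution in `PGU₃(q)`, `q` even, in coordinates
-/

set_option autoImplicit false

namespace Cfsg.Agent.AIC

variable {F : Type*} [Field F]

/-- An involutive endomorphism of a field. -/
class Invol (σ : F →+* F) : Prop where
  inv : ∀ a, σ (σ a) = a

@[simp] theorem σσ (σ : F →+* F) [h : Invol σ] (a : F) : σ (σ a) = a := h.inv a

/-- Numerical data of the field with `q²` elements. -/
structure FD (σ : F →+* F) (q : ℕ) : Prop where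
  pow : ∀ a, σ a = a ^ q
  card : Nat.card F = q ^ 2
  cardN : Nat.card {x : F // x * σ x = 1} = q + 1
  cardF : Nat.card {x : F // σ x = x} = q
  two_lt : 2 < q
  even : Even q
  tr : ∃ ω, ω + σ ω = 1

/-- Affine points of the unital. -/
@[ext] structure Q (σ : F →+* F) where
  /-- first coordinate -/
  a : F
  /-- second coordinate -/
  b : F
  hab : b + σ b = a * σ a

/-- The model of the centralizer. -/
@[ext] structure M (σ : F →+* F) where
  /-- first coordinate -/
  a : F
  /-- second coordinate -/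
  b : F
  /-- torus part -/
  μ : F
  hab : b + σ b = a * σ a
  hμ : μ * σ μ = 1

variable {σ : F →+* F}

namespace Q

/-- The origin. -/
def o : Q σ := ⟨0, 0, by simp⟩

/-- Scaling. -/
def sc [Invol σ] (l : F) (p : Q σ) : Q σ := ⟨l * p.a, l * σ l * p.b, by
  simp only [map_mul, σσ]; linear_combination l * σ l * p.hab⟩

/-- Translation. -/
def add [Invol σ] (p r : Q σ) : Q σ := ⟨p.a + r.a, p.b + r.b + σ p.a * r.a, by
  simp only [map_mul, map_add, σσ]; linear_combination p.hab + r.hab⟩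

/-- Inverse. -/
def neg [Invol σ] (p : Q σ) : Q σ := ⟨-p.a, σ p.b, by
  simp only [map_neg, σσ]; linear_combination p.hab⟩

theorem b_ne {p : Q σ} (h : p.a ≠ 0) : p.b ≠ 0 := fun e => by
  have := p.hab
  rw [e, map_zero, add_zero] at this
  exact mul_ne_zero h ((map_ne_zero σ).2 h) this.symm

end Q

namespace M

variable [Invol σ]

instance instMul : Mul (M σ) := ⟨fun x y =>
  ⟨x.a + x.μ * y.a, x.b + y.b + σ x.a * (x.μ * y.a), x.μ * y.μ, by
    simp only [map_mul, map_add, σσ]
    linear_combination x.hab + y.hab - y.a * σ y.a * x.hμ, by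
    simp only [map_mul]
    linear_combination y.μ * σ y.μ * x.hμ + y.hμ⟩⟩

instance instOne : One (M σ) := ⟨⟨0, 0, 1, by simp, by simp⟩⟩

instance instInv : Inv (M σ) := ⟨fun x => ⟨-(σ x.μ * x.a), σ x.b, σ x.μ, by
    simp only [map_mul, map_neg, σσ]
    linear_combination x.hab - x.a * σ x.a * x.hμ, by
    simp only [σσ]; linear_combination x.hμ⟩⟩

@[simp] theorem mul_a (x y : M σ) : (x * y).a = x.a + x.μ * y.a := rfl
@[simp] theorem mul_b (x y : M σ) : (x * y).b = x.b + y.b + σ x.a * (x.μ * y.a) := rfl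
@[simp] theorem mul_μ (x y : M σ) : (x * y).μ = x.μ * y.μ := rfl
@[simp] theorem one_a : (1 : M σ).a = 0 := rfl
@[simp] theorem one_b : (1 : M σ).b = 0 := rfl
@[simp] theorem one_μ : (1 : M σ).μ = 1 := rfl
@[simp] theorem inv_a (x : M σ) : x⁻¹.a = -(σ x.μ * x.a) := rfl
@[simp] theorem inv_b (x : M σ) : x⁻¹.b = σ x.b := rfl
@[simp] theorem inv_μ (x : M σ) : x⁻¹.μ = σ x.μ := rfl

instance instGroup : Group (M σ) := Group.ofLeftAxioms
  (fun x y z => by
    ext
    · simp only [mul_a, mul_μ]; ring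
    · simp only [mul_a, mul_b, mul_μ, map_add, map_mul]
      linear_combination σ y.a * y.μ * z.a * x.hμ
    · simp only [mul_μ]; ring)
  (fun x => by ext <;> simp)
  (fun x => by
    ext
    · simp
    · simp only [mul_b, inv_a, inv_b, inv_μ, one_b, map_neg, map_mul, σσ]
      linear_combination x.hab - x.a * σ x.a * x.hμ
    · simp only [mul_μ, inv_μ, one_μ]; linear_combination x.hμ)

/-- Unipotent elements. -/
def X (p : Q σ) : M σ := ⟨p.a, p.b, 1, p.hab, by simp⟩

/-- Torus elements. -/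
def K (μ : F) (h : μ * σ μ = 1) : M σ := ⟨0, 0, μ, by simp, h⟩

/-- The unipotent part. -/
def q (x : M σ) : Q σ := ⟨x.a, x.b, x.hab⟩

@[simp] theorem X_a (p : Q σ) : (X p).a = p.a := rfl
@[simp] theorem X_b (p : Q σ) : (X p).b = p.b := rfl
@[simp] theorem X_μ (p : Q σ) : (X p).μ = 1 := rfl
@[simp] theorem K_a (μ : F) (h : μ * σ μ = 1) : (K μ h).a = 0 := rfl
@[simp] theorem K_b (μ : F) (h : μ * σ μ = 1) : (K μ h).b = 0 := rfl
@[simp] theorem K_μ (μ : F) (h : μ * σ μ = 1) : (K μ h).μ = μ := rfl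

theorem X_mul (p r : Q σ) : X p * X r = X (p.add r) := by ext <;> simp [Q.add]

theorem X_o : X (Q.o : Q σ) = 1 := rfl

theorem X_inv (p : Q σ) : (X p)⁻¹ = X p.neg := by ext <;> simp [Q.neg]

theorem X_inj {p r : Q σ} (h : X p = X r) : p = r :=
  Q.ext (congrArg M.a h) (congrArg M.b h)

theorem eq_X_K (x : M σ) : x = X x.q * K x.μ x.hμ := by ext <;> simp [q]

theorem eq_X {x : M σ} (h : x.μ = 1) : x = X x.q := by ext <;> simp [q, h]

theorem K_X (μ : F) (h : μ * σ μ = 1) (p : Q σ) : K μ h * X p * (K μ h)⁻¹ = X (p.sc μ) := by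
  ext <;> simp [Q.sc, h]

theorem pow_μ (x : M σ) (n : ℕ) : (x ^ n).μ = x.μ ^ n := by
  induction n with
  | zero => simp
  | succ n ih => rw [pow_succ, pow_succ, mul_μ, ih]

theorem pow_of_a {x : M σ} (h : x.a = 0) (n : ℕ) : (x ^ n).a = 0 ∧ (x ^ n).b = n * x.b := by
  induction n with
  | zero => simp
  | succ n ih => rw [pow_succ]; simp [ih.1, ih.2, h, add_mul]

theorem commute_of_a {x y : M σ} (hx : x.a = 0) (hy : y.a = 0) : Commute x y := by
  change x * y = y * x
  ext <;> simp [hx, hy, add_comm, mul_comm]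

theorem a_of_commute {x y : M σ} (hx : x.a = 0) (hμ : x.μ ≠ 1) (h : Commute x y) : y.a = 0 := by
  have := congrArg M.a h.eq
  simp only [mul_a, hx, zero_add, mul_zero, add_zero] at this
  by_contra hne
  exact hμ (mul_right_cancel₀ hne (this.trans (one_mul _).symm))

theorem commute_of_central {x : M σ} (ha : x.a = 0) (hμ : x.μ = 1) (y : M σ) : Commute x y := by
  change x * y = y * x
  ext <;> simp [ha, hμ, add_comm]

theorem exists_conj_a {x : M σ} (hμ : x.μ ≠ 1) (htr : ∃ ω : F, ω + σ ω = 1) :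
    ∃ c : M σ, (c * x * c⁻¹).a = 0 := by
  obtain ⟨ω, hω⟩ := htr
  have h1 : x.μ - 1 ≠ 0 := sub_ne_zero.2 hμ
  refine ⟨X ⟨x.a / (x.μ - 1), ω * (x.a / (x.μ - 1) * σ (x.a / (x.μ - 1))), ?_⟩, ?_⟩
  · simp only [map_mul, σσ]; linear_combination (x.a / (x.μ - 1) * σ (x.a / (x.μ - 1))) * hω
  · simp only [mul_a, X_a, X_μ, mul_μ, inv_a, map_one]
    field_simp
    ring

variable [CharP F 2]

theorem eq_one_of_sq {c : F} (h : c * c = 1) : c = 1 := by
  have h2 : (c - 1) ^ 2 = 0 := by linear_combination h + (1 - c) * (CharTwo.two_eq_zero (R := F))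
  exact sub_eq_zero.1 (pow_eq_zero_iff two_ne_zero |>.1 h2)

theorem eq_one_of_pow {c : F} {k : ℕ} (h : c ^ 2 ^ k = 1) : c = 1 := by
  induction k with
  | zero => simpa using h
  | succ k ih => exact ih (eq_one_of_sq (by rw [← sq, ← pow_mul, ← pow_succ, h]))

theorem mul_self_iff {x : M σ} : x * x = 1 ↔ x.a = 0 ∧ x.μ = 1 := by
  constructor
  · intro h
    have h1 : x.μ = 1 := eq_one_of_sq (congrArg M.μ h)
    have h2 := congrArg M.b h
    simp only [mul_b, h1, one_mul, one_b, CharTwo.add_self_eq_zero, zero_add, mul_eq_zero,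
      map_eq_zero, or_self] at h2
    exact ⟨h2, h1⟩
  · rintro ⟨h1, h2⟩
    ext <;> simp [h1, h2, CharTwo.add_self_eq_zero]

theorem pow_four {x : M σ} (h : x.μ = 1) : x ^ 2 ^ 2 = 1 := by
  rw [show 2 ^ 2 = 2 + 2 by norm_num, pow_add, mul_self_iff, sq]
  simp [h, CharTwo.add_self_eq_zero]

theorem X_mul_self (p : Q σ) : X p * X p = X ⟨0, σ p.a * p.a, by simp [mul_comm, CharTwo.add_self_eq_zero]⟩ := by
  ext <;> simp [CharTwo.add_self_eq_zero]

theorem exists_conj_K {x : M σ} (hx : Odd (orderOf x)) (htr : ∃ ω : F, ω + σ ω = 1) :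
    ∃ c : M σ, c * x * c⁻¹ = K x.μ x.hμ := by
  by_cases hμ : x.μ = 1
  · have h1 : x = 1 := eq_one_of_coprime (n := orderOf x) (m := 2 ^ 2)
      (Nat.Coprime.pow_right 2 (Nat.coprime_two_right.2 hx)) (pow_orderOf_eq_one x) (pow_four hμ)
    exact ⟨1, by subst h1; ext <;> simp⟩
  · obtain ⟨c, hc⟩ := exists_conj_a hμ htr
    refine ⟨c, M.ext hc ?_ ?_⟩
    · have h1 := (pow_of_a hc (orderOf x)).2
      rw [conj_pow, pow_orderOf_eq_one, mul_one, mul_inv_cancel, one_b] at h1
      obtain ⟨k, hk⟩ := hx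
      rw [hk] at h1
      push_cast at h1
      rw [CharTwo.two_eq_zero, zero_mul, zero_add, one_mul] at h1
      exact h1.symm
    · simp only [mul_μ, inv_μ, K_μ]
      linear_combination x.μ * c.hμ

omit [CharP F 2] in
theorem K_pow {q : ℕ} (hF : FD σ q) (μ : F) (h : μ * σ μ = 1) : K μ h ^ (q + 1) = 1 := by
  ext
  · exact (pow_of_a rfl _).1
  · rw [(pow_of_a rfl _).2]; simp
  · rw [pow_μ, pow_succ', K_μ, ← hF.pow, h, one_μ]

theorem card {q : ℕ} (hF : FD σ q) : Nat.card (M σ) = q ^ 2 * q * (q + 1) := by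
  obtain ⟨ω, hω⟩ := hF.tr
  have h2 := CharTwo.two_eq_zero (R := F)
  rw [← hF.card, ← hF.cardN]
  nth_rewrite 1 [← hF.cardF]
  rw [← Nat.card_prod, ← Nat.card_prod]
  exact Nat.card_congr
    { toFun := fun x => ⟨⟨x.a, x.b + ω * (x.a * σ x.a), by
        simp only [map_add, map_mul, σσ]
        linear_combination x.hab + x.a * σ x.a * hω +
          (x.a * σ x.a - x.b - ω * (x.a * σ x.a)) * h2⟩, x.μ, x.hμ⟩
      invFun := fun y => ⟨y.1.1, y.1.2.1 + ω * (y.1.1 * σ y.1.1), y.2.1, by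
        simp only [map_add, map_mul, σσ, y.1.2.2]
        linear_combination y.1.1 * σ y.1.1 * hω + y.1.2.1 * h2, y.2.2⟩
      left_inv := fun x => by ext <;> simp [add_assoc, CharTwo.add_self_eq_zero]
      right_inv := fun y => by ext <;> simp [add_assoc, CharTwo.add_self_eq_zero] }

end M

theorem fd_frobq [Fintype F] [CharP F 2] {q : ℕ} (hq : 2 < q) (hF : Fintype.card F = q ^ 2) :
    Invol (Forms.frobq hF) ∧ FD (Forms.frobq hF) q := by
  refine ⟨⟨Forms.frobq_frobq hF⟩, fun _ => rfl, by rw [Nat.card_eq_fintype_card, hF],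
    Forms.card_norm_one hF, ?_, hq, ?_,
    Forms.exists_trace_eq _ (Forms.frobq_frobq hF) (Forms.frobq_ne hF) (map_one _)⟩
  · have h1 := IsCyclic.card_powMonoidHom_ker Fˣ (q - 1)
    have h2 : Nat.card Fˣ = (q - 1) * (q + 1) := by
      rw [Nat.card_units, Nat.card_eq_fintype_card, hF, mul_comm, ← Nat.sq_sub_sq, one_pow]
    rw [h2, Nat.gcd_mul_right_left] at h1
    have h3 : ∀ x : F, x ≠ 0 → (Forms.frobq hF x = x ↔ x ^ (q - 1) = 1) := fun x hx => by
      rw [Forms.frobq_apply, show x ^ q = x ^ (q - 1) * x by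
        rw [← pow_succ, Nat.sub_add_cancel (by omega)]]
      exact mul_eq_right₀ hx
    classical
    have e : {x : F // Forms.frobq hF x = x} ≃ Option (powMonoidHom (q - 1) : Fˣ →* Fˣ).ker :=
      { toFun := fun x => if hx : x.1 = 0 then none else some ⟨Units.mk0 x.1 hx,
          Units.ext (by simpa using (h3 _ hx).1 x.2)⟩
        invFun := fun y => match y with
          | none => ⟨0, map_zero _⟩
          | some y => ⟨y.1.1, (h3 _ y.1.ne_zero).2 (by
              simpa using congrArg Units.val (MonoidHom.mem_ker.1 y.2))⟩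
        left_inv := fun x => by
          by_cases hx : x.1 = 0
          · simp only [dif_pos hx]; exact Subtype.ext hx.symm
          · simp only [dif_neg hx]; rfl
        right_inv := fun y => by
          cases y with
          | none => simp
          | some y => simp }
    rw [Nat.card_congr e, Finite.card_option, h1]; omega
  · have h2 : CharP F 2 := inferInstance
    obtain ⟨p, k, hp, hc, hk, rfl⟩ := Forms.exists_char_pow hF
    rw [CharP.eq F hc h2]
    exact (Nat.even_pow.2 ⟨even_two, by omega⟩)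

end Cfsg.Agent.AIC
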