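import Cfsg.Agent.Lib.AIC.UIso

/-!
# The centralizer of an involution in `PGU₃(q)`, `q` even: the matrices
-/

set_option autoImplicit false

namespace Cfsg.Agent.AIC

open Matrix

variable {F : Type*} [Field F] (σ : F →+* F)

/-- The hermitian form with antidiagonal matrix. -/
def hf (u v : Fin 3 → F) : F := u 0 * σ (v 2) + u 1 * σ (v 1) + u 2 * σ (v 0)

/-- Its unitary group. -/
def GU' : Subgroup (GL (Fin 3) F) := preserving (Units.coeHom _) (hf σ)

variable {σ}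

theorem mem_GU' {g : GL (Fin 3) F} : g ∈ GU' σ ↔ ∀ u v, hf σ (g.1 *ᵥ u) (g.1 *ᵥ v) = hf σ u v :=
  Iff.rfl

theorem GU'_ext {g h : GU' σ} (e : g.1.1 = h.1.1) : g = h := Subtype.ext (Units.ext e)

/-- A matrix with an explicit inverse. -/
def mkGU (A B : Matrix (Fin 3) (Fin 3) F) (h : A * B = 1)
    (h' : ∀ u v, hf σ (A *ᵥ u) (A *ᵥ v) = hf σ u v) : GU' σ :=
  ⟨⟨A, B, h, mul_eq_one_comm.1 h⟩, h'⟩

/-- Scalars. -/
def scal (l : F) (h : l * σ l = 1) : GU' σ := mkGU (l • 1) (σ l • 1) (by simp [smul_smul, h, mul_comm])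
  fun u v => by
    simp only [hf, smul_mulVec, one_mulVec, Pi.smul_apply, smul_eq_mul, map_mul]
    linear_combination (u 0 * σ (v 2) + u 1 * σ (v 1) + u 2 * σ (v 0)) * h

theorem scal_mem (l : F) (h : l * σ l = 1) : scal l h ∈ Subgroup.center (GU' σ) :=
  Subgroup.mem_center_iff.2 fun g => GU'_ext (by
    change g.1.1 * (l • 1) = (l • 1) * g.1.1
    simp)

/-- The Weyl element. -/
def wy : GU' σ := mkGU !![0, 0, 1; 0, 1, 0; 1, 0, 0] !![0, 0, 1; 0, 1, 0; 1, 0, 0]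
  (by ext i j; fin_cases i <;> fin_cases j <;> simp [mul_apply, Fin.sum_univ_three])
  fun u v => by simp [hf, mulVec, dotProduct, Fin.sum_univ_three]; ring

theorem wy_mul : (wy : GU' σ) * wy = 1 := GU'_ext (wy : GU' σ).1.val_inv

variable [Invol σ] [CharP F 2]

/-- The matrix of an element of the model. -/
def mat (x : M σ) : Matrix (Fin 3) (Fin 3) F := !![1, σ x.a * x.μ, x.b; 0, x.μ, x.a; 0, 0, 1]

omit [CharP F 2] in
theorem mat_mul (x y : M σ) : mat (x * y) = mat x * mat y := by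
  ext i j
  fin_cases i <;> fin_cases j <;> simp [mat, mul_apply, Fin.sum_univ_three]
  · linear_combination σ y.a * y.μ * x.hμ
  · ring
  · ring

omit [CharP F 2] in
theorem mat_one : mat (1 : M σ) = 1 := by
  ext i j
  fin_cases i <;> fin_cases j <;> simp [mat]

/-- The model inside the unitary group. -/
def ρ : M σ →* GU' σ where
  toFun x := mkGU (mat x) (mat x⁻¹) (by rw [← mat_mul, mul_inv_cancel, mat_one]) fun u v => by
    have h20 := CharTwo.two_eq_zero (R := F)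
    simp [hf, mat, mulVec, dotProduct, Fin.sum_univ_three]
    linear_combination u 1 * σ (v 1) * x.hμ + u 2 * σ (v 2) * x.hab +
      (σ x.a * x.μ * u 1 * σ (v 2) + x.a * σ x.μ * u 2 * σ (v 1) + x.a * σ x.a * u 2 * σ (v 2)) * h20
  map_one' := GU'_ext mat_one
  map_mul' x y := GU'_ext (mat_mul x y)

theorem ρ_val (x : M σ) : (ρ x).1.1 = mat x := rfl

/-- The standard involution of the model. -/
def y0 : M σ := M.X ⟨0, 1, by simp [CharTwo.add_self_eq_zero]⟩

theorem y0_inv : IsInv (y0 : M σ) :=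
  ⟨fun e => one_ne_zero (congrArg M.b e), M.mul_self_iff.2 ⟨rfl, rfl⟩⟩

theorem exists_of_commute {g : GU' σ} (h : Commute g (ρ y0)) :
    ∃ l hl x, g = scal l hl * ρ x := by
  have h20 := CharTwo.two_eq_zero (R := F)
  have e : g.1.1 * mat y0 = mat y0 * g.1.1 := congrArg (fun z : GU' σ => z.1.1) h.eq
  have e1 := congrFun (congrFun e 0) 0
  have e2 := congrFun (congrFun e 0) 1
  have e3 := congrFun (congrFun e 0) 2
  have e4 := congrFun (congrFun e 1) 2
  simp [mat, y0, mul_apply, Fin.sum_univ_three] at e1 e2 e3 e4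
  have e5 : g.1.1 2 2 = g.1.1 0 0 := by linear_combination -e3
  have f := mem_GU'.1 g.2
  have f1 := f ![1, 0, 0] ![0, 0, 1]
  have f2 := f ![0, 1, 0] ![0, 1, 0]
  have f3 := f ![0, 1, 0] ![0, 0, 1]
  have f4 := f ![0, 0, 1] ![0, 0, 1]
  simp [hf, mulVec, dotProduct, Fin.sum_univ_three, e1, e2, e4, e5] at f1 f2 f3 f4
  refine ⟨g.1.1 0 0, f1, ⟨g.1.1 1 2 * σ (g.1.1 0 0), g.1.1 0 2 * σ (g.1.1 0 0),
    g.1.1 1 1 * σ (g.1.1 0 0), ?_, ?_⟩, GU'_ext ?_⟩
  · simp only [map_mul, σσ]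
    linear_combination f4 - g.1.1 1 2 * σ (g.1.1 1 2) * f1 - g.1.1 1 2 * σ (g.1.1 1 2) * h20
  · simp only [map_mul, σσ]
    linear_combination g.1.1 1 1 * σ (g.1.1 1 1) * f1 + f2
  · change g.1.1 = (g.1.1 0 0 • (1 : Matrix (Fin 3) (Fin 3) F)) * mat _
    rw [smul_mul_assoc, one_mul]
    ext i j
    fin_cases i <;> fin_cases j <;> simp [mat, e1, e2, e4, e5]
    · linear_combination g.1.1 0 0 * f3 - (g.1.1 0 1 + g.1.1 0 0 * g.1.1 1 1 * σ (g.1.1 1 2)) * f1 -
        g.1.1 0 0 * g.1.1 1 1 * σ (g.1.1 1 2) * h20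
    · linear_combination -g.1.1 0 2 * f1
    · linear_combination -g.1.1 1 1 * f1
    · linear_combination -g.1.1 1 2 * f1

theorem eq_one_of_central {x : M σ} (htr : ∃ ω : F, ω + σ ω = 1) {l : F} {hl : l * σ l = 1}
    (h : scal l hl * ρ x ∈ Subgroup.center (GU' σ)) : x = 1 := by
  obtain ⟨ω, hω⟩ := htr
  have h1 : ρ x ∈ Subgroup.center (GU' σ) := by simpa using mul_mem (inv_mem (scal_mem l hl)) h
  have e : (wy : GU' σ).1.1 * mat x = mat x * (wy : GU' σ).1.1 :=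
    congrArg (fun z : GU' σ => z.1.1) (Subgroup.mem_center_iff.1 h1 wy)
  have e' : mat (M.X ⟨1, ω, by simpa using hω⟩) * mat x = mat x * mat _ :=
    congrArg (fun z : GU' σ => z.1.1) (Subgroup.mem_center_iff.1 h1 (ρ _))
  have e1 := congrFun (congrFun e 0) 0
  have e2 := congrFun (congrFun e 1) 0
  have e3 := congrFun (congrFun e' 1) 2
  simp [mat, wy, mkGU, mul_apply, Fin.sum_univ_three] at e1 e2 e3
  exact M.ext e2.symm e1.symm (by simp only [M.one_μ]; linear_combination -e3)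

/-- The model inside the projective unitary group. -/
def φ0 : M σ →* GU' σ ⧸ Subgroup.center (GU' σ) := (QuotientGroup.mk' _).comp ρ

theorem exists_of_commute' (htr : ∃ ω : F, ω + σ ω = 1) {g : GU' σ}
    (h : Commute (g : GU' σ ⧸ Subgroup.center (GU' σ)) (φ0 y0)) : ∃ l hl x, g = scal l hl * ρ x := by
  refine exists_of_commute ?_
  have h1 : (g * ρ y0 * g⁻¹)⁻¹ * ρ y0 ∈ Subgroup.center (GU' σ) :=
    QuotientGroup.eq.1 (conj_eq_of_commute h)
  obtain ⟨l, hl, x, e⟩ := exists_of_commute (center_commute h1 (ρ y0))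
  rw [e] at h1
  rw [eq_one_of_central htr h1, map_one, mul_one, inv_mul_eq_iff_eq_mul] at e
  have hy : ρ (y0 : M σ) * ρ y0 = 1 := by rw [← map_mul, y0_inv.2, map_one]
  have h2 : scal l hl * scal l hl = 1 := by
    have h3 : g * ρ y0 * g⁻¹ * (g * ρ y0 * g⁻¹) = 1 := by
      rw [show g * ρ y0 * g⁻¹ * (g * ρ y0 * g⁻¹) = g * (ρ y0 * ρ y0) * g⁻¹ by group, hy]; simp
    rwa [e, mul_assoc, ← mul_assoc (scal l hl), (center_commute (scal_mem l hl) _).eq,
      mul_assoc _ (scal l hl), ← mul_assoc, h3, one_mul] at hy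
  have h3 : l * l = 1 := by
    have := congrArg (fun z : GU' σ => z.1.1 0 0) h2
    change ((l • 1 : Matrix (Fin 3) (Fin 3) F) * (l • 1)) 0 0 = (1 : Matrix (Fin 3) (Fin 3) F) 0 0
      at this
    simpa using this
  obtain rfl := M.eq_one_of_sq h3
  rw [show scal 1 hl = 1 from GU'_ext (one_smul _ _), mul_one] at e
  exact commute_of_conj_eq e.symm

theorem mod_φ0 (htr : ∃ ω : F, ω + σ ω = 1) : Mod (φ0 (y0 : M σ)) (φ0 (σ := σ)) := by
  refine ⟨(injective_iff_map_eq_one _).2 fun x hx => ?_, fun g => ⟨fun hg => ?_, ?_⟩⟩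
  · exact eq_one_of_central htr (l := 1) (hl := by simp)
      (mul_mem (scal_mem _ _) ((QuotientGroup.eq_one_iff _).1 hx))
  · obtain ⟨g, rfl⟩ := QuotientGroup.mk_surjective g
    obtain ⟨l, hl, x, rfl⟩ := exists_of_commute' htr hg
    refine ⟨x, ?_⟩
    rw [QuotientGroup.mk_mul, (QuotientGroup.eq_one_iff _).2 (scal_mem l hl), one_mul]
    rfl
  · rintro ⟨x, rfl⟩
    exact (M.commute_of_central rfl rfl x).symm.map φ0

theorem nc_φ0 (htr : ∃ ω : F, ω + σ ω = 1) :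
    ∃ u v : GU' σ ⧸ Subgroup.center (GU' σ), IsInv u ∧ IsInv v ∧ ¬ Commute u v := by
  have h : ¬ Commute ((wy : GU' σ) : GU' σ ⧸ Subgroup.center (GU' σ)) (φ0 y0) := fun e => by
    obtain ⟨l, hl, x, e⟩ := exists_of_commute' htr e
    have := congrArg (fun z : GU' σ => z.1.1 2 0) e
    change _ = ((l • 1 : Matrix (Fin 3) (Fin 3) F) * mat x) 2 0 at this
    simp [wy, mkGU, mat] at this
  exact ⟨_, _, ⟨fun e => h (by rw [e]; exact Commute.one_left _), by
    rw [← QuotientGroup.mk_mul, wy_mul]; rfl⟩, (mod_φ0 htr).isInv_iff.2 y0_inv, h⟩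

theorem exists_GU_equiv {q : ℕ} (hF : FD σ q) : Nonempty (GU' σ ≃* GU 3 F q) := by
  have h20 := CharTwo.two_eq_zero (R := F)
  obtain ⟨ω, hω⟩ := hF.tr
  let P : GL (Fin 3) F := ⟨!![1, 0, ω; 1, 0, ω + 1; 0, 1, 0], !![ω + 1, ω, 0; 0, 0, 1; 1, 1, 0],
    by
      ext i j
      fin_cases i <;> fin_cases j <;> simp [mul_apply, Fin.sum_univ_three] <;>
        first | linear_combination ω * h20 | linear_combination (ω + 1) * h20,
    by
      ext i j
      fin_cases i <;> fin_cases j <;> simp [mul_apply, Fin.sum_univ_three] <;>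
        first | linear_combination ω * h20 | linear_combination (ω + 1) * ω * h20 |
          linear_combination h20⟩
  have hP : ∀ u v, hermForm 3 F q (P.1 *ᵥ u) (P.1 *ᵥ v) = hf σ u v := fun u v => by
    simp [hermForm, hf, P, mulVec, dotProduct, Fin.sum_univ_three, ← hF.pow]
    linear_combination u 2 * σ (v 2) * hω + (u 0 * σ (v 0) + u 0 * σ ω * σ (v 2) +
      ω * u 2 * σ (v 0) + ω * σ ω * u 2 * σ (v 2) + u 2 * σ (v 2)) * h20
  refine ⟨((MulAut.conj P).subgroupMap (GU' σ)).trans (MulEquiv.subgroupCongr ?_)⟩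
  ext g
  refine Subgroup.mem_map_equiv.trans (mem_GU'.trans ?_)
  simp only [MulAut.conj_symm_apply, Units.val_mul, ← mulVec_mulVec, ← hP]
  simp only [mulVec_mulVec, ← mul_assoc, Units.mul_inv, one_mul]
  refine ⟨fun h u v => ?_, fun h u v => ?_⟩
  · have := h ((P⁻¹).1 *ᵥ u) ((P⁻¹).1 *ᵥ v)
    simp only [mulVec_mulVec, mul_assoc, Units.mul_inv, mul_one, one_mulVec] at this
    exact this
  · simpa using h (P.1 *ᵥ u) (P.1 *ᵥ v)

end Cfsg.Agent.AIC
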