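import Cfsg.Agent.Lib.AIC.UAct

/-!
# Groups whose involution centralizers are those of `PGU₃(q)`, `q` even: the swapping involution
-/

set_option autoImplicit false

namespace Cfsg.Agent.AIC

variable {F : Type*} [Field F] {σ : F →+* F} {q : ℕ} {G : Type*} [Group G] [Invol σ]

/-- The standard block. -/
def B0 : Option (Q σ) → Prop
  | none => True
  | some r => r.a = 0

/-- Elements fixing a block pointwise. -/
structure AT (q : ℕ) (e : G) : Prop where
  ne : e ≠ 1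
  pow : e ^ (q + 1) = 1

theorem AT.conj {e : G} (h : AT q e) (g : G) : AT q (g * e * g⁻¹) :=
  ⟨fun e1 => h.ne (by simpa using conj_eq_one_iff.1 e1), by rw [conj_pow, h.pow]; simp⟩

theorem AT.conj' {e : G} (h : AT q e) (g : G) : AT q (g⁻¹ * e * g) := by
  simpa using h.conj g⁻¹

namespace Setup

variable (S : Setup σ q G) [CharP F 2] [Finite G]

theorem fix_k {μ : F} (h : μ * σ μ = 1) (h1 : μ ≠ 1) (p : Option (Q σ)) :
    S.act (S.k μ h) p = p ↔ B0 p := by
  cases p with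
  | none => exact ⟨fun _ => trivial, fun _ => S.act_none.2 (S.k_N μ h)⟩
  | some p =>
    rw [(S.sc_k μ h).act, Option.some.injEq]
    constructor
    · intro e
      by_contra hne
      exact h1 (mul_right_cancel₀ hne ((congrArg Q.a e).trans (one_mul _).symm))
    · intro e
      replace e : p.a = 0 := e
      ext <;> simp [Q.sc, e, h]

theorem B0_t (p : Option (Q σ)) : B0 (S.act S.t p) ↔ B0 p := by
  obtain ⟨ν, hν, hν1⟩ := S.hF.exists_norm
  rw [← S.fix_k hν hν1, ← S.fix_k hν hν1, ← act_mul, (S.t_k ν hν).eq, act_mul]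
  exact ⟨S.act_inj _, fun e => by rw [e]⟩

theorem eq_k {e : G} (he : AT q e) (h1 : S.act e none = none)
    (h2 : S.act e (some Q.o) = some Q.o) : ∃ μ h, μ ≠ 1 ∧ e = S.k μ h := by
  obtain ⟨μ, h, rfl⟩ := S.exists_k (S.h.commute_of_pow S.hu (S.act_none.1 h1) he.pow) (S.act_o.1 h2)
  exact ⟨μ, h, fun e1 => he.ne (by subst e1; exact S.k_one _), rfl⟩

theorem same_block {e e' : G} (he : AT q e) (he' : AT q e') {p r s : Option (Q σ)} (hpr : p ≠ r)
    (h1 : S.act e p = p) (h2 : S.act e r = r) (h3 : S.act e' p = p) (h4 : S.act e' r = r)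
    (h5 : S.act e s = s) : S.act e' s = s := by
  obtain ⟨g, rfl, rfl⟩ := S.exists_act_two hpr
  obtain ⟨μ, h, hμ, e1⟩ := S.eq_k (he.conj' g) (S.act_conj'.2 h1) (S.act_conj'.2 h2)
  obtain ⟨ν, h', hν, e2⟩ := S.eq_k (he'.conj' g) (S.act_conj'.2 h3) (S.act_conj'.2 h4)
  rw [← S.act_act_inv g s, ← S.act_conj'] at h5 ⊢
  rw [e1, S.fix_k h hμ] at h5
  rwa [e2, S.fix_k h' hν]

theorem vert {e : G} (he : AT q e) {p r : Q σ} (h1 : S.act e none = none)
    (h2 : S.act e (some p) = some p) (h3 : S.act e (some r) = some r) : p.a = r.a := by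
  obtain ⟨μ, h, hμ, e1⟩ := S.eq_k (he.conj' (S.x p)) (S.act_conj'.2 (by rwa [act_x_none]))
    (S.act_conj'.2 (by rwa [act_x_o]))
  have h4 : S.act (S.x p) (some (p.neg.add r)) = some r := by
    rw [← S.act_x, ← S.x_inv, act_act_inv]
  rw [← h4, ← S.act_conj', e1, S.fix_k h hμ] at h3
  replace h3 : -p.a + r.a = 0 := h3
  linear_combination -h3

theorem exists_t {p : Q σ} (hp : p.a ≠ 0) : ∃ r, S.act S.t (some p) = some r ∧ r.a ≠ 0 := by
  have h := mt (S.B0_t (some p)).1 hp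
  cases e : S.act S.t (some p) with
  | none => rw [e] at h; exact absurd trivial h
  | some r => rw [e] at h; exact ⟨r, rfl, h⟩

theorem circle {p : Q σ} (hp : p.a ≠ 0) :
    ∃ e, AT q e ∧ ∀ ν, ν * σ ν = 1 → S.act e (some (p.sc ν)) = some (p.sc ν) := by
  obtain ⟨r, hr, hr0⟩ := S.exists_t hp
  obtain ⟨d, hd, -⟩ := S.exists_sc_t (div_ne_zero hr0 hp)
  have ha : (p.sc (r.a / p.a)).a = r.a := by simp only [Q.sc]; field_simp
  let z : Q σ := ⟨0, r.b - (p.sc (r.a / p.a)).b, by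
    simp only [map_sub, map_zero, mul_zero]
    linear_combination r.hab - (p.sc (r.a / p.a)).hab - σ (p.sc (r.a / p.a)).a * ha -
      r.a * congrArg σ ha⟩
  have h1 : S.act (S.x z * d) (some p) = some r := by
    rw [act_mul, hd.act, act_x]
    congr 1
    ext <;> simp [Q.add, z, ha]
  have h2 : ∀ ν, ν * σ ν = 1 → S.act ((S.x z * d)⁻¹ * S.t) (some (p.sc ν)) = some (p.sc ν) := by
    intro ν hν
    have hc : Commute (S.k ν hν) ((S.x z * d)⁻¹ * S.t) :=
      ((S.k_x_comm ν hν rfl).mul_right (S.D_k hd.hu hd.hv ν hν)).inv_right.mul_right (S.t_k ν hν)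
    rw [← (S.sc_k ν hν).act, ← act_mul, ← hc.eq, act_mul, act_mul, hr, ← h1, act_inv_act]
  refine ⟨_, ⟨fun e => S.h.not_mem_N S.hu S.ht S.htu ?_, ?_⟩, h2⟩
  · rw [← inv_mul_eq_one.1 e]; exact mul_mem (S.x_N z) hd.hu
  · obtain ⟨ν, hν, hν1⟩ := S.hF.exists_norm
    have hν' : σ ν * σ (σ ν) = 1 := by rw [σσ, mul_comm, hν]
    have hne : ∀ a b : F, a ≠ b → ¬ Commute (S.rep (some (p.sc a))) (S.rep (some (p.sc b))) :=
      fun a b hab e => hab (mul_right_cancel₀ hp
        (congrArg Q.a (Option.some.inj (S.rep_inj e))))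
    have n1 := S.act_fix.1 (h2 1 (by simp))
    have n2 := S.act_fix.1 (h2 ν hν)
    have n3 := S.act_fix.1 (h2 _ hν')
    refine S.h.eq_one_of_three (S.rep_inv _) (S.rep_inv _) (S.rep_inv _) (hne _ _ hν1.symm)
      (hne 1 (σ ν) fun e => hν1 (by rw [← e, mul_one] at hν; exact hν))
      (hne ν (σ ν) fun e => hν1 (M.eq_one_of_sq (by rwa [← e] at hν)))
      (pow_mem n1 _) (pow_mem n2 _) (pow_mem n3 _) ?_
    rw [← pow_mul, mul_comm (q + 1), pow_mul]
    exact S.h.pow_B (S.rep_inv _) (S.rep_inv _) (hne _ _ hν1.symm) (S.h.pw1 (S.rep_inv _) n1)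
      (pow_mem n2 _)

theorem line {α c : F} (hα : α ≠ 0) (hc : σ c = c) :
    ∃ e, AT q e ∧ ∀ p : Q σ, p.b = α * p.a + c → S.act e (some p) = some p := by
  have h20 := CharTwo.two_eq_zero (R := F)
  obtain ⟨ω, hω⟩ := S.hF.tr
  have hσ : σ α ≠ 0 := (map_ne_zero σ).2 hα
  let p0 : Q σ := ⟨σ α, ω * (σ α * α), by
    simp only [map_mul, σσ]; linear_combination σ α * α * hω⟩
  let z : Q σ := ⟨0, c, by simp [hc, CharTwo.add_self_eq_zero]⟩
  obtain ⟨e, he, h1⟩ := S.circle (p := p0) hσ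
  refine ⟨_, he.conj (S.x z * (S.x p0)⁻¹), fun p hp => ?_⟩
  have h2 : (p.a + σ α) / σ α * σ ((p.a + σ α) / σ α) = 1 := by
    have h3 := p.hab
    rw [hp, map_add, map_mul, hc] at h3
    rw [map_div₀, map_add, σσ]
    field_simp
    linear_combination h3 + (p.a * σ p.a - c) * h20
  have h3 : S.act (S.x z * (S.x p0)⁻¹) (some (p0.sc ((p.a + σ α) / σ α))) = some p := by
    rw [act_mul, x_inv, act_x, act_x]
    congr 1
    ext
    · simp only [Q.add, Q.neg, Q.sc, p0, z]; field_simp; ring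
    · simp only [Q.add, Q.neg, Q.sc, h2, p0, z, map_mul, map_neg, σσ, map_zero, hp]
      field_simp
      linear_combination α * σ α * hω - α * p.a * h20
  rw [← h3]
  exact S.act_conj (h1 _ h2)

theorem exists_tau : ∃ c : F, c ≠ 0 ∧ σ c = c ∧ ∀ p : Q σ, p.b ≠ 0 →
    ∃ r, S.act S.t (some p) = some r ∧ r.a * p.b = c * p.a ∧ r.b * p.b = c * c := by
  have h20 := CharTwo.two_eq_zero (R := F)
  obtain ⟨ω, hω⟩ := S.hF.tr
  have h1 : ∀ p p' r r' : Q σ, p.a ≠ 0 → p'.b = p.b / p.a * p'.a → S.act S.t (some p) = some r →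
      S.act S.t (some p') = some r' → r.a = r'.a := by
    intro p p' r r' hp e hr hr'
    obtain ⟨g, hg, h2⟩ := S.line (div_ne_zero (Q.b_ne hp) hp) (map_zero σ)
    refine S.vert (hg.conj S.t) ?_ ?_ ?_
    · rw [← S.act_t_o]; exact S.act_conj (h2 _ (by simp [Q.o]))
    · rw [← hr]; exact S.act_conj (h2 _ (by field_simp; ring))
    · rw [← hr']; exact S.act_conj (h2 _ (by rw [e, add_zero]))
  let p1 : Q σ := ⟨1, ω, by simpa using hω⟩
  have hω0 : ω ≠ 0 := Q.b_ne (p := p1) one_ne_zero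
  obtain ⟨r1, hr1, hr10⟩ := S.exists_t (p := p1) one_ne_zero
  have h2 : ∀ p r : Q σ, p.a ≠ 0 → S.act S.t (some p) = some r → r.a * p.b = ω * r1.a * p.a := by
    intro p r hp hr
    have hb := Q.b_ne hp
    have hl : σ (p.b / (p.a * ω)) ≠ 0 := (map_ne_zero σ).2 (div_ne_zero hb (mul_ne_zero hp hω0))
    obtain ⟨d, hd, hd'⟩ := S.exists_sc_t hl
    have h3 : S.act S.t (some (p1.sc (σ (p.b / (p.a * ω))))) =
        some (r1.sc (σ (σ (p.b / (p.a * ω))))⁻¹) := by
      rw [← hd.act, ← hd'.act, ← hr1, ← act_mul, ← act_mul, S.ht.mul_mul']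
    rw [h1 p _ r _ hp (by simp only [Q.sc, p1, σσ]; field_simp) hr h3]
    simp only [Q.sc, σσ]
    field_simp
  obtain ⟨c, hc⟩ : ∃ c, c = ω * r1.a := ⟨_, rfl⟩
  rw [← hc] at h2
  have hc0 : c ≠ 0 := hc ▸ mul_ne_zero hω0 hr10
  have h3 : ∀ p : Q σ, p.a ≠ 0 → ∃ r, S.act S.t (some p) = some r ∧ r.a ≠ 0 ∧
      r.a * p.b = c * p.a ∧ r.b * p.b = c * c := fun p hp => by
    obtain ⟨r, hr, hr0⟩ := S.exists_t hp
    have e1 := h2 p r hp hr
    have e2 := h2 r p hr0 (by rw [← hr, act_t_t])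
    exact ⟨r, hr, hr0, e1, mul_left_cancel₀ hp (by linear_combination p.b * e2 + c * e1)⟩
  have hcσ : σ c = c := by
    have h4 : ∀ p : Q σ, p.a = 1 → (c + σ c) * (c * σ p.b + σ c * p.b) = 0 := fun p hp => by
      obtain ⟨r, -, -, e1, e2⟩ := h3 p (by rw [hp]; exact one_ne_zero)
      have e3 := congrArg σ e1
      have e4 := congrArg σ e2
      have e5 := p.hab
      simp only [hp, map_mul, map_one, mul_one] at e1 e3 e4 e5
      linear_combination p.b * σ p.b * r.hab - σ p.b * e2 - p.b * e4 + σ r.a * σ p.b * e1 +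
        c * e3 + c * σ c * e5 + c * σ c * h20
    have e1 := h4 p1 rfl
    have e2 := h4 ⟨1, ω + 1, by simp only [map_add, map_one]; linear_combination hω + h20⟩ rfl
    simp only [p1, map_add, map_one] at e1 e2
    have e3 : (c + σ c) ^ 2 = 0 := by linear_combination e2 - e1
    have e4 := (pow_eq_zero_iff two_ne_zero).1 e3
    linear_combination e4 - c * h20
  refine ⟨c, hc0, hcσ, fun p hb => ?_⟩
  by_cases hp : p.a = 0
  swap
  · obtain ⟨r, e1, -, e2⟩ := h3 p hp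
    exact ⟨r, e1, e2⟩
  obtain ⟨r, hr⟩ := Option.ne_none_iff_exists'.1 (show S.act S.t (some p) ≠ none from fun e =>
    hb (congrArg Q.b (Option.some.inj (S.act_inj S.t (e.trans S.act_t_o.symm)))))
  have hr0 : r.a = 0 := by
    have := (S.B0_t (some p)).2 hp
    rwa [hr] at this
  have hbσ : σ p.b = p.b := by
    have := p.hab
    rw [hp, zero_mul] at this
    linear_combination this - p.b * h20
  refine ⟨r, hr, by rw [hr0, hp]; ring, ?_⟩
  obtain ⟨ν, hν, hν1⟩ := S.hF.exists_norm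
  have hσν : σ (c * c / p.b) = c * c / p.b := by rw [map_div₀, map_mul, hcσ, hbσ]
  let z : Q σ := ⟨0, c * c / p.b, by simp [hσν, CharTwo.add_self_eq_zero]⟩
  obtain ⟨e, he, h4⟩ := S.line one_ne_zero hbσ
  obtain ⟨e', he', h5⟩ := S.line (div_ne_zero hc0 hb) hσν
  have key : ∀ μ, μ * σ μ = 1 → μ ≠ 1 → ∃ s : Q σ, s.a ≠ 0 ∧ s.a * (1 + μ + p.b) = c * (1 + μ) ∧
      S.act (S.t * e * S.t⁻¹) (some s) = some s ∧ S.act e' (some s) = some s := by
    intro μ hμ hμ1
    let y : Q σ := ⟨1 + μ, 1 + μ + p.b, by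
      simp only [map_add, map_one, hbσ]; linear_combination -hμ + p.b * h20⟩
    have hy : y.a ≠ 0 := fun e => hμ1 (by
      simp only [y] at e
      linear_combination e - h20)
    obtain ⟨s, e1, e2, e3, e4⟩ := h3 y hy
    refine ⟨s, e2, e3, ?_, h5 s (mul_right_cancel₀ (Q.b_ne hy) ?_)⟩
    · rw [← e1]; exact S.act_conj (h4 y (by simp [y]))
    · rw [e4, add_mul, mul_assoc, e3]
      simp only [y]
      field_simp
      linear_combination -(1 + μ) * h20
  have hν2 : σ ν ≠ 1 := fun e => hν1 (by rwa [e, mul_one] at hν)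
  obtain ⟨s, a1, a2, a3, a4⟩ := key ν hν hν1
  obtain ⟨s', b1, b2, b3, b4⟩ := key (σ ν) (by rw [σσ, mul_comm, hν]) hν2
  have hss : some s ≠ some s' := fun e => by
    rw [← Option.some.inj e] at b2
    have h6 : (s.a - c) * (ν - σ ν) = 0 := by linear_combination a2 - b2
    rcases mul_eq_zero.1 h6 with h7 | h7
    · have : c * p.b = 0 := by linear_combination a2 - (1 + ν + p.b) * h7
      exact mul_ne_zero hc0 hb this
    · exact hν1 (M.eq_one_of_sq (by rwa [← sub_eq_zero.1 h7] at hν))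
  have h6 : S.act e' (some r) = some r := S.same_block (he.conj S.t) he' hss a3 b3 a4 b4 (by
    rw [← hr]; exact S.act_conj (h4 p (by simp [hp])))
  by_cases hrz : some r = some z
  · rw [Option.some.inj hrz]
    simp only [z]; field_simp
  · exact absurd ((S.fix_k hν hν1 _).1 (S.same_block he' ⟨S.k_ne hν hν1, S.k_pow ν hν⟩ hrz h6
      (h5 z (by simp [z])) ((S.fix_k hν hν1 _).2 hr0) ((S.fix_k hν hν1 (some z)).2 rfl) a4)) a1

theorem eq_one_of_act {g : G} (h : ∀ p, S.act g p = p) : g = 1 := by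
  obtain ⟨l, -, hl⟩ := S.exists_sc (S.act_none.1 (h _)) (S.act_o.1 (h _))
  obtain ⟨ω, hω⟩ := S.hF.tr
  have h1 : l = 1 := by
    have := (hl.act ⟨1, ω, by simpa using hω⟩).symm.trans (h _)
    simpa [Q.sc] using congrArg Q.a (Option.some.inj this)
  subst h1
  have i1 := S.mod.isInv_X (map_one σ) one_ne_zero
  have h2 : Commute g S.u := S.h.trans i1 S.hu (S.mod.commute _) (commute_of_conj_eq (by
    have := hl.conj ⟨0, 1, by simp [CharTwo.add_self_eq_zero]⟩
    rw [x] at this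
    rw [this, x]; congr 2
    ext <;> simp [Q.sc]))
  obtain ⟨μ, hμ, rfl⟩ := S.exists_k h2 hl.hv
  obtain rfl := (S.sc_k μ hμ).unique hl
  exact S.k_one _

end Setup

end Cfsg.Agent.AIC
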